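import Groth.Agent.SmVar.K658.SecSmooth
import Mathlib.AlgebraicGeometry.Morphisms.Flat

/-!
# Reducedness and flatness of closed subschemes on charts
-/

set_option autoImplicit false
universe u
open CategoryTheory CategoryTheory.Limits AlgebraicGeometry TopologicalSpace Opposite

namespace K960.BrCover

variable {X C : Scheme.{u}}

theorem cover_comp (h : X ⟶ C) (J : X.IdealSheafData) (W : X.affineOpens) (U : C.affineOpens) (e : W.1 ≤ h ⁻¹ᵁ U.1) :
    J.subschemeCover.f W ≫ J.subschemeι ≫ h =
      Spec.map (CommRingCat.ofHom ((Ideal.Quotient.mk (J.ideal W)).comp (h.appLE U.1 W.1 e).hom)) ≫ U.2.fromSpec := by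
  have h1 : J.glueDataObjι W ≫ W.1.toSpecΓ = Spec.map (CommRingCat.ofHom (Ideal.Quotient.mk (J.ideal W))) := by
    rw [Scheme.IdealSheafData.glueDataObjι, Category.assoc, ← W.2.isoSpec_hom, Iso.inv_hom_id,
      Category.comp_id]
  have h2 : J.subschemeCover.f W ≫ J.subschemeι =
      Spec.map (CommRingCat.ofHom (Ideal.Quotient.mk (J.ideal W))) ≫ W.2.fromSpec := by
    refine (J.subschemeCover_map_subschemeι W).trans ?_
    have h3 : W.1.ι = W.1.toSpecΓ ≫ W.2.fromSpec := by
      rw [W.2.toSpecΓ_fromSpec]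
    rw [h3, ← Category.assoc, h1]
    rfl
  have h4 : (Spec.map (CommRingCat.ofHom (Ideal.Quotient.mk (J.ideal W))) ≫ W.2.fromSpec) ≫ h =
      Spec.map (CommRingCat.ofHom (Ideal.Quotient.mk (J.ideal W))) ≫ Spec.map (h.appLE U.1 W.1 e) ≫ U.2.fromSpec := by
    rw [Category.assoc, ← IsAffineOpen.SpecMap_appLE_fromSpec h U.2 W.2 e]
  refine (Category.assoc _ _ _).symm.trans ((congrArg (fun t => t ≫ h) h2).trans (h4.trans ?_))
  refine (Category.assoc _ _ _).symm.trans (congrArg (fun t => t ≫ U.2.fromSpec) ?_)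
  exact (Spec.map_comp _ _).symm

/-- Reducedness and flatness of a closed subscheme, checked on charts. -/
theorem isReduced_and_flat (h : X ⟶ C) (J : X.IdealSheafData) {I : Type*} (W : I → X.affineOpens)
    (U : I → C.affineOpens) (e : ∀ i, (W i).1 ≤ h ⁻¹ᵁ (U i).1) (hW : ∀ x : X, ∃ i, x ∈ (W i).1)
    (h1 : ∀ i, _root_.IsReduced (Γ(X, (W i).1) ⧸ J.ideal (W i)))
    (h2 : ∀ i, ((Ideal.Quotient.mk (J.ideal (W i))).comp (h.appLE (U i).1 (W i).1 (e i)).hom).Flat) :
    IsReduced J.subscheme ∧ Flat (J.subschemeι ≫ h) := by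
  let 𝒰 : J.subscheme.OpenCover := Scheme.Cover.mkOfCovers I (fun i => _) (fun i => J.subschemeCover.f (W i))
    (fun x => by
      obtain ⟨i, hi⟩ := hW (J.subschemeι x)
      have h1 : x ∈ (J.subschemeCover.f (W i)).opensRange := by
        rw [J.opensRange_subschemeCover_map]; exact hi
      obtain ⟨y, hy⟩ := h1
      exact ⟨i, y, hy⟩) (fun i => by infer_instance)
  constructor
  · have : ∀ x : J.subscheme, _root_.IsReduced (J.subscheme.presheaf.stalk x) := by
      intro x
      obtain ⟨i, y, hy⟩ := Scheme.Cover.exists_eq 𝒰 x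
      have h3 : IsReduced (𝒰.X i) := by
        change IsReduced (Spec (CommRingCat.of (Γ(X, (W i).1) ⧸ J.ideal (W i))))
        rw [affine_isReduced_iff]
        exact h1 i
      subst hy
      have h4 : _root_.IsReduced ((𝒰.X i).presheaf.stalk y) := inferInstance
      exact isReduced_of_injective (asIso ((𝒰.f i).stalkMap y)).commRingCatIsoToRingEquiv
        (asIso ((𝒰.f i).stalkMap y)).commRingCatIsoToRingEquiv.injective
    exact isReduced_of_isReduced_stalk _
  · rw [IsZariskiLocalAtSource.iff_of_openCover (P := @Flat) 𝒰]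
    intro (i : I)
    change Flat (J.subschemeCover.f (W i) ≫ J.subschemeι ≫ h)
    rw [cover_comp h J (W i) (U i) (e i)]
    have h3 : Flat (Spec.map (CommRingCat.ofHom ((Ideal.Quotient.mk (J.ideal (W i))).comp
        (h.appLE (U i).1 (W i).1 (e i)).hom))) := by
      rw [Flat.SpecMap_iff]
      exact h2 i
    have h4 : Flat (U i).2.fromSpec := inferInstance
    exact MorphismProperty.comp_mem (W := @Flat) _ _ h3 h4

end K960.BrCover
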