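import Groth.Agent.Ega4B.DimFT
import Mathlib.RingTheory.AlgebraicIndependent.TranscendenceBasis
import Mathlib.RingTheory.Flat.TorsionFree

/-!
# A coordinate transcendental over the base curve
-/

set_option autoImplicit false
universe u

namespace K960.BrTr2

/-- Let `B` be flat over the domain `R` of dimension at most one and integral over the `R`-subalgebra generated by the `a i`. At
every irreducible component of dimension at least two some `a i` is transcendental over `R`. -/
theorem exists_transcendental {k R B : Type u} [Field k] [CommRing R] [IsDomain R] [CommRing B] [Algebra k R]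
    [Algebra k B] [Algebra R B] [IsScalarTower k R B] [Algebra.FiniteType k R] [Algebra.FiniteType k B]
    (hR : ringKrullDim R ≤ 1) [Module.Flat R B] {m : ℕ} (a : Fin m → B)
    (hint : ∀ b : B, IsIntegral (Algebra.adjoin R (Set.range a)) b)
    (hdim : ∀ P ∈ minimalPrimes B, 2 ≤ ringKrullDim (B ⧸ P)) (P : Ideal B) (hP : P ∈ minimalPrimes B) :
    ∃ i, Transcendental R (Ideal.Quotient.mk P (a i)) := by
  by_contra hcon
  push Not at hcon
  have hcon' : ∀ i, IsAlgebraic R (Ideal.Quotient.mk P (a i)) := fun i => not_not.1 (hcon i)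
  have hPp : P.IsPrime := hP.1.1
  -- injectivity
  have hinj : Function.Injective (algebraMap R (B ⧸ P)) := by
    rw [injective_iff_map_eq_zero]
    intro r hr
    by_contra h0
    have h1 : algebraMap R B r ∈ P := by
      rw [← Ideal.Quotient.eq_zero_iff_mem]
      exact hr
    have h2 : ∀ b : B, algebraMap R B r * b = 0 → b = 0 := by
      intro b hb
      have h3 := Module.Flat.isSMulRegular_of_nonZeroDivisors (M := B) (mem_nonZeroDivisors_of_ne_zero h0)
      apply h3
      change r • b = r • 0
      rw [smul_zero, Algebra.smul_def, hb]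
    have h3 : algebraMap R B r ∈ nonZeroDivisors B := by
      rw [mem_nonZeroDivisors_iff_right]
      intro b hb
      exact h2 b (by rw [mul_comm]; exact hb)
    exact (Ideal.disjoint_nonZeroDivisors_of_mem_minimalPrimes hP).le_bot ⟨h1, h3⟩
  have hfs : FaithfulSMul R (B ⧸ P) := (faithfulSMul_iff_algebraMap_injective _ _).2 hinj
  -- D is algebraic over R
  have halg : Algebra.IsAlgebraic R (B ⧸ P) := by
    refine ⟨fun d => ?_⟩
    obtain ⟨b, rfl⟩ := Ideal.Quotient.mk_surjective d
    have h1 := hint b
    let S := Subalgebra.algebraicClosure R (B ⧸ P)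
    have h2 : ∀ x ∈ Algebra.adjoin R (Set.range a), Ideal.Quotient.mk P x ∈ S := by
      intro x hx
      have h3 : Algebra.adjoin R (Set.range a) ≤ S.comap (Ideal.Quotient.mkₐ R P) := by
        apply Algebra.adjoin_le
        rintro _ ⟨i, rfl⟩
        exact hcon' i
      exact h3 hx
    obtain ⟨p, hp, hpb⟩ := h1
    let φ : Algebra.adjoin R (Set.range a) →+* S :=
      ((Ideal.Quotient.mk P).comp (Algebra.adjoin R (Set.range a)).val.toRingHom).codRestrict S fun x => h2 _ x.2
    have h3 : IsIntegral S (Ideal.Quotient.mk P b) := by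
      refine ⟨p.map φ, hp.map φ, ?_⟩
      rw [Polynomial.eval₂_map]
      have h4 : (algebraMap S (B ⧸ P)).comp φ =
          (Ideal.Quotient.mk P).comp (algebraMap (Algebra.adjoin R (Set.range a)) B) := rfl
      rw [h4, ← Polynomial.hom_eval₂, hpb, map_zero]
    exact (h3.isAlgebraic).restrictScalars R
  obtain ⟨n₁, h1, h2⟩ := Groth.Agent.Ega4B.DimFT.exists_dim k R
  obtain ⟨n₂, h3, h4⟩ := Groth.Agent.Ega4B.DimFT.exists_dim k (B ⧸ P)
  have hkR : FaithfulSMul k R := inferInstance
  have h5 := trdeg_add_eq k R (A := B ⧸ P)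
  rw [trdeg_eq_zero (R := R) (A := B ⧸ P), h1, h3, add_zero] at h5
  have h6 : n₁ = n₂ := by exact_mod_cast h5
  have h7 := hdim P hP
  rw [h4] at h7
  rw [h2] at hR
  have h8 : n₁ ≤ 1 := by exact_mod_cast hR
  have h9 : 2 ≤ n₂ := by exact_mod_cast h7
  omega

end K960.BrTr2
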