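import Groth.Agent.BranchVar.K960.BrHyp
import Groth.Agent.BranchVar.K960.BrTr2
import Groth.Agent.BranchVar.K960.BrCover
import Groth.Agent.Ega3B.KunnethSec
import Groth.Agent.VarietyB.ProjSpaceProper

/-!
# Generic hyperplane sections on the standard charts
-/

set_option autoImplicit false
universe u
open CategoryTheory CategoryTheory.Limits AlgebraicGeometry TopologicalSpace Opposite
open Groth.Agent.VarietyB Groth.Agent.VarietyB.ProjGlue Groth.Agent.Ega3B.KunnethSec
open Groth.Agent.Ega2.H298.ProjRatio Groth.Agent.Ega2.H298.ProjExt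

namespace K960.BrChart

open K658

variable (k : Type u) [Field k] (N : ℕ) {C : Scheme.{u}} (g : C ⟶ Spec (CommRingCat.of k)) {X : Scheme.{u}}
  (f : X ⟶ pullback (CohB1.ProjSpace.toSpec N k) g)

/-- The component to projective space. -/
noncomputable abbrev f1 : X ⟶ CohB1.ProjSpace N k := f ≫ pullback.fst (CohB1.ProjSpace.toSpec N k) g

/-- The component to the curve. -/
noncomputable abbrev f2 : X ⟶ C := f ≫ pullback.snd (CohB1.ProjSpace.toSpec N k) g

/-- The standard open subset. -/
noncomputable abbrev D (j : Fin (N + 1)) : (CohB1.ProjSpace N k).Opens :=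
  Proj.basicOpen (CohB1.polyGrading N k) (ProjSec.X1 k N j).1

theorem isAffineOpen_D (j : Fin (N + 1)) : IsAffineOpen (D k N j) :=
  Proj.isAffineOpen_basicOpen _ _ (ProjSec.X1 k N j).2 Nat.one_pos

/-- The chart of the product. -/
noncomputable abbrev T (j : Fin (N + 1)) (U : C.Opens) : (pullback (CohB1.ProjSpace.toSpec N k) g).Opens :=
  box (CohB1.ProjSpace.toSpec N k) g (D k N j) U

theorem isAffineOpen_T (j : Fin (N + 1)) {U : C.Opens} (hU : IsAffineOpen U) : IsAffineOpen (T k N g j U) :=
  isAffineOpen_box _ _ _ _ (isAffineOpen_D k N j) hU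

/-- The chart. -/
noncomputable abbrev W (j : Fin (N + 1)) (U : C.Opens) : X.Opens := f ⁻¹ᵁ T k N g j U

theorem isAffineOpen_W [IsAffineHom f] (j : Fin (N + 1)) {U : C.Opens} (hU : IsAffineOpen U) :
    IsAffineOpen (W k N g f j U) :=
  (isAffineOpen_T k N g j hU).preimage f

theorem W_le1 (j : Fin (N + 1)) (U : C.Opens) : W k N g f j U ≤ (f1 k N g f) ⁻¹ᵁ D k N j := fun _ hx => hx.1

theorem W_le2 (j : Fin (N + 1)) (U : C.Opens) : W k N g f j U ≤ (f2 k N g f) ⁻¹ᵁ U := fun _ hx => hx.2

/-- The ring homomorphism from the polynomial ring. -/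
noncomputable def th (j : Fin (N + 1)) (U : C.Opens) : MvPolynomial (Fin (N + 1)) k →+* Γ(X, W k N g f j U) :=
  (resHom (CohB1.polyGrading N k) (f1 k N g f) (ProjSec.X1 k N j) (W_le1 k N g f j U)).comp
    (deh (CohB1.polyGrading N k) (ProjSec.X1 k N j))

theorem th_self (j : Fin (N + 1)) (U : C.Opens) : th k N g f j U (MvPolynomial.X j) = 1 := by
  have h1 : frac (CohB1.polyGrading N k) (ProjSec.X1 k N j) (ProjSec.X1 k N j) = 1 := by
    apply HomogeneousLocalization.val_injective
    rw [frac, HomogeneousLocalization.Away.val_mk, HomogeneousLocalization.val_one,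
      ← Localization.mk_self (⟨(ProjSec.X1 k N j).1 ^ 1, ⟨1, rfl⟩⟩ : Submonoid.powers (ProjSec.X1 k N j).1)]
    congr 1
    exact (pow_one _).symm
  change resHom (CohB1.polyGrading N k) (f1 k N g f) (ProjSec.X1 k N j) (W_le1 k N g f j U)
    (deh (CohB1.polyGrading N k) (ProjSec.X1 k N j) (ProjSec.X1 k N j).1) = _
  rw [deh_frac, h1, map_one]

theorem th_C (j : Fin (N + 1)) (U : C.Opens) (a : k) : th k N g f j U (MvPolynomial.C a) =
    toSec k (f1 k N g f ≫ CohB1.ProjSpace.toSpec N k) (W k N g f j U) a := by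
  have h2 := deh_algebraMap (CohB1.polyGrading N k) (ProjSec.X1 k N j) a
  rw [MvPolynomial.algebraMap_eq] at h2
  have h3 := resHom_algebraMap (CohB1.polyGrading N k) (f1 k N g f) (ProjSec.X1 k N j) (W_le1 k N g f j U) a
  rw [← h2] at h3
  exact h3

theorem th_C' (j : Fin (N + 1)) (U : C.Opens) (a : k) : th k N g f j U (MvPolynomial.C a) =
    toSec k (f2 k N g f ≫ g) (W k N g f j U) a := by
  have h : f1 k N g f ≫ CohB1.ProjSpace.toSpec N k = f2 k N g f ≫ g := by
    rw [Category.assoc, pullback.condition, Category.assoc]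
  rw [th_C]
  exact congrArg (fun q => toSec k q (W k N g f j U) a) h

theorem th_ratio (j : Fin (N + 1)) (U : C.Opens) (h : CohB1.polyGrading N k 1) : th k N g f j U h =
    (f1 k N g f).appLE (D k N j) (W k N g f j U) (W_le1 k N g f j U)
      (ratio (CohB1.polyGrading N k) (ProjSec.X1 k N j) h) := by
  change resHom (CohB1.polyGrading N k) (f1 k N g f) (ProjSec.X1 k N j) (W_le1 k N g f j U)
    (deh (CohB1.polyGrading N k) (ProjSec.X1 k N j) h.1) = _
  rw [deh_frac, resHom_frac]
  rfl

/-- Functions on the standard open come from polynomials. -/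
theorem exists_th (j : Fin (N + 1)) (U : C.Opens) (d : Γ(CohB1.ProjSpace N k, D k N j)) :
    ∃ P, th k N g f j U P = (f1 k N g f).appLE (D k N j) (W k N g f j U) (W_le1 k N g f j U) d := by
  have h3 : Function.Surjective (Proj.awayToSection (CohB1.polyGrading N k) (ProjSec.X1 k N j).1) :=
    (Proj.basicOpenIsoAway (CohB1.polyGrading N k) (ProjSec.X1 k N j).1 (ProjSec.X1 k N j).2
      Nat.one_pos).commRingCatIsoToRingEquiv.surjective
  obtain ⟨y, rfl⟩ := h3 d
  obtain ⟨P, rfl⟩ := deh_surjective (CohB1.polyGrading N k) (ProjSec.X1 k N j) y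
  exact ⟨P, rfl⟩

theorem th_lin (j : Fin (N + 1)) (U : C.Opens) [Algebra k Γ(X, W k N g f j U)]
    (halg : ∀ a, algebraMap k Γ(X, W k N g f j U) a = th k N g f j U (MvPolynomial.C a)) (v : Fin (N + 1) → k) :
    th k N g f j U (ProjSec.lin v : CohB1.polyGrading N k 1) =
      BrPoly.eqn j (fun l => th k N g f j U (MvPolynomial.X (j.succAbove l))) v := by
  change th k N g f j U (∑ i, MvPolynomial.C (v i) * MvPolynomial.X i) = _
  rw [map_sum, Fin.sum_univ_succAbove _ j, map_mul, th_self, mul_one, BrPoly.eqn, halg]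
  congr 1
  refine Finset.sum_congr rfl fun l _ => ?_
  rw [map_mul, halg, mul_comm]

/-- The ring of the chart is integral over the algebra generated by the coordinates. -/
theorem isIntegral_adjoin [IsFinite f] (j : Fin (N + 1)) {U : C.Opens} (hU : IsAffineOpen U) :
    letI := ((f2 k N g f).appLE U (W k N g f j U) (W_le2 k N g f j U)).hom.toAlgebra
    ∀ b : Γ(X, W k N g f j U), IsIntegral (Algebra.adjoin Γ(C, U)
      (Set.range fun l : Fin N => th k N g f j U (MvPolynomial.X (j.succAbove l)))) b := by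
  intro b
  let _ := ((f2 k N g f).appLE U (W k N g f j U) (W_le2 k N g f j U)).hom.toAlgebra
  let S := Algebra.adjoin Γ(C, U) (Set.range fun l : Fin N => th k N g f j U (MvPolynomial.X (j.succAbove l)))
  have hR : ∀ r : Γ(C, U), (f2 k N g f).appLE U (W k N g f j U) (W_le2 k N g f j U) r ∈ S := fun r =>
    Subalgebra.algebraMap_mem S r
  have hth : ∀ P, th k N g f j U P ∈ S := by
    intro P
    induction P using MvPolynomial.induction_on with
    | C c =>
      have h1 := appLE_toSec k g (f2 k N g f) (W_le2 k N g f j U) c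
      rw [th_C', ← h1]
      exact hR _
    | add P Q hP hQ => rw [map_add]; exact add_mem hP hQ
    | mul_X P i hP =>
      rw [map_mul]
      refine mul_mem hP ?_
      refine Fin.succAboveCases j ?_ (fun l => ?_) i
      · rw [th_self]; exact one_mem _
      · exact Algebra.subset_adjoin ⟨l, rfl⟩
  have hT : ∀ z : Γ(pullback (CohB1.ProjSpace.toSpec N k) g, T k N g j U), f.app (T k N g j U) z ∈ S := by
    intro z
    have hpo := isPushout_box (CohB1.ProjSpace.toSpec N k) g (D k N j) U (isAffineOpen_D k N j) hU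
    have hcl := CommRingCat.closure_range_union_range_eq_top_of_isPushout hpo
    have hz : z ∈ Subring.closure (Set.range ((pullback.fst (CohB1.ProjSpace.toSpec N k) g).appLE (D k N j)
        (T k N g j U) inf_le_left) ∪ Set.range ((pullback.snd (CohB1.ProjSpace.toSpec N k) g).appLE U
        (T k N g j U) inf_le_right)) := by
      rw [hcl]; trivial
    have hle : Subring.closure (Set.range ((pullback.fst (CohB1.ProjSpace.toSpec N k) g).appLE (D k N j)
        (T k N g j U) inf_le_left) ∪ Set.range ((pullback.snd (CohB1.ProjSpace.toSpec N k) g).appLE U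
        (T k N g j U) inf_le_right)) ≤ (S.toSubring).comap (f.app (T k N g j U)).hom := by
      rw [Subring.closure_le]
      rintro _ (⟨d, rfl⟩ | ⟨r, rfl⟩)
      · change f.app (T k N g j U) ((pullback.fst (CohB1.ProjSpace.toSpec N k) g).appLE (D k N j)
          (T k N g j U) inf_le_left d) ∈ S
        obtain ⟨P, hP⟩ := exists_th k N g f j U d
        have h1 : (pullback.fst (CohB1.ProjSpace.toSpec N k) g).appLE (D k N j) (T k N g j U) inf_le_left ≫
            f.app (T k N g j U) = (f1 k N g f).appLE (D k N j) (W k N g f j U) (W_le1 k N g f j U) := by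
          rw [Scheme.Hom.app_eq_appLE, Scheme.Hom.appLE_comp_appLE]
        have h2 := congr($h1 d)
        rw [CommRingCat.comp_apply] at h2
        rw [h2, ← hP]
        exact hth P
      · change f.app (T k N g j U) ((pullback.snd (CohB1.ProjSpace.toSpec N k) g).appLE U
          (T k N g j U) inf_le_right r) ∈ S
        have h1 : (pullback.snd (CohB1.ProjSpace.toSpec N k) g).appLE U (T k N g j U) inf_le_right ≫
            f.app (T k N g j U) = (f2 k N g f).appLE U (W k N g f j U) (W_le2 k N g f j U) := by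
          rw [Scheme.Hom.app_eq_appLE, Scheme.Hom.appLE_comp_appLE]
        have h2 := congr($h1 r)
        rw [CommRingCat.comp_apply] at h2
        rw [h2]
        exact hR r
    exact hle hz
  have hfin : (f.app (T k N g j U)).hom.IsIntegral :=
    (f.finite_app (T k N g j U) (isAffineOpen_T k N g j hU)).to_isIntegral
  obtain ⟨p, hp, hpb⟩ := hfin b
  let φ : Γ(pullback (CohB1.ProjSpace.toSpec N k) g, T k N g j U) →+* S :=
    (f.app (T k N g j U)).hom.codRestrict S hT
  refine ⟨p.map φ, hp.map φ, ?_⟩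
  rw [Polynomial.eval₂_map]
  exact hpb

/-- The point of a chart attached to a minimal prime is a maximal point. -/
theorem isMax_fromSpec {V : X.Opens} (hV : IsAffineOpen V) (P : Ideal Γ(X, V)) (hP : P ∈ minimalPrimes Γ(X, V)) :
    ∃ (ξ : X) (hξ : ξ ∈ V), K260.Gen.IsMax ξ ∧ (hV.primeIdealOf ⟨ξ, hξ⟩).asIdeal = P := by
  let y : Spec Γ(X, V) := ⟨P, hP.1.1⟩
  have hy : hV.fromSpec y ∈ V := by
    have : hV.fromSpec y ∈ hV.fromSpec.opensRange := ⟨y, rfl⟩
    rwa [hV.opensRange_fromSpec] at this
  have h1 : hV.primeIdealOf ⟨hV.fromSpec y, hy⟩ = y := by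
    apply hV.fromSpec.isOpenEmbedding.injective
    exact hV.fromSpec_primeIdealOf ⟨hV.fromSpec y, hy⟩
  refine ⟨hV.fromSpec y, hy, ?_, congrArg (fun t : Spec Γ(X, V) => t.asIdeal) h1⟩
  intro z hz
  have hzV : z ∈ V := hz.mem_open V.2 hy
  have hz' : z ∈ hV.fromSpec.opensRange := by rw [hV.opensRange_fromSpec]; exact hzV
  obtain ⟨y', rfl⟩ := hz'
  have h2 : y' ⤳ y := hV.fromSpec.isOpenEmbedding.isInducing.specializes_iff.1 hz
  have h3 : y'.asIdeal ≤ P := (PrimeSpectrum.le_iff_specializes (x := y') (y := y)).2 h2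
  have h4 : P ≤ y'.asIdeal := hP.2 ⟨y'.isPrime, bot_le⟩ h3
  have h5 : y' = y := PrimeSpectrum.ext (le_antisymm h3 h4)
  rw [h5]

theorem chart_good [CharZero k] [Smooth g] [IsIntegral C] (hC1 : topologicalKrullDim C ≤ 1) [IsFinite f] [IsReduced X]
    [Flat (f2 k N g f)] [X.Over (Spec (CommRingCat.of k))] (hX : f2 k N g f ≫ g = X ↘ (Spec (CommRingCat.of k)))
    (hdim : ∀ ξ : X, K260.Gen.IsMax ξ → 2 ≤ DimSch.trd k X ξ) (j : Fin (N + 1)) {U : C.Opens} (hU : IsAffineOpen U)
    [Nonempty U] :
    ∃ G : MvPolynomial (Fin (N + 1)) k, G ≠ 0 ∧ ∀ v : Fin (N + 1) → k, MvPolynomial.eval v G ≠ 0 →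
      _root_.IsReduced (Γ(X, W k N g f j U) ⧸ Ideal.span {th k N g f j U (ProjSec.lin v : CohB1.polyGrading N k 1)}) ∧
      ((Ideal.Quotient.mk (Ideal.span {th k N g f j U (ProjSec.lin v : CohB1.polyGrading N k 1)})).comp
        ((f2 k N g f).appLE U (W k N g f j U) (W_le2 k N g f j U)).hom).Flat := by
  have hW := isAffineOpen_W k N g f j hU
  let iR : Algebra k Γ(C, U) := (toSec k g U).toAlgebra
  let iRB : Algebra Γ(C, U) Γ(X, W k N g f j U) :=
    ((f2 k N g f).appLE U (W k N g f j U) (W_le2 k N g f j U)).hom.toAlgebra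
  let iB : Algebra k Γ(X, W k N g f j U) := (toSec k (f2 k N g f ≫ g) (W k N g f j U)).toAlgebra
  have iT : IsScalarTower k Γ(C, U) Γ(X, W k N g f j U) := IsScalarTower.of_algebraMap_eq fun a =>
    (appLE_toSec k g (f2 k N g f) (W_le2 k N g f j U) a).symm
  have hpr : IsProper (CohB1.ProjSpace.toSpec N k) := Groth.Agent.VarietyB.ProjSpaceProper.isProper_toSpec N k
  have hlft : LocallyOfFiniteType (f2 k N g f ≫ g) := inferInstance
  have hlft' : LocallyOfFiniteType (X ↘ (Spec (CommRingCat.of k))) := hX ▸ hlft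
  have hsm : Algebra.Smooth k Γ(C, U) := by
    have := SecSmooth.smooth_baseHom g hU
    exact this
  have hft : Algebra.FiniteType k Γ(X, W k N g f j U) := by
    have h1 := DimSch.toSections_finiteType k X hW
    have h2 : DimSch.toSections k X (W k N g f j U) = toSec k (f2 k N g f ≫ g) (W k N g f j U) := by
      rw [hX]; rfl
    rw [h2] at h1
    exact h1
  have hflat : Module.Flat Γ(C, U) Γ(X, W k N g f j U) :=
    (f2 k N g f).flat_appLE hU hW (W_le2 k N g f j U)
  have hR1 : ringKrullDim Γ(C, U) ≤ 1 := by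
    rw [← DimSch.topologicalKrullDim_affineOpen hU]
    exact (Topology.IsInducing.subtypeVal.topologicalKrullDim_le).trans hC1
  have hint := isIntegral_adjoin k N g f j hU
  have halg : ∀ a, algebraMap k Γ(X, W k N g f j U) a = th k N g f j U (MvPolynomial.C a) := fun a =>
    (th_C' k N g f j U a).symm
  have hT : ∀ P ∈ minimalPrimes Γ(X, W k N g f j U), ∃ i : Fin N, Transcendental Γ(C, U)
      (Ideal.Quotient.mk P (th k N g f j U (MvPolynomial.X (j.succAbove i)))) := by
    refine BrTr2.exists_transcendental (k := k) hR1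
      (fun l : Fin N => th k N g f j U (MvPolynomial.X (j.succAbove l))) hint fun P hP => ?_
    obtain ⟨ξ, hξ, hmax, rfl⟩ := isMax_fromSpec hW P hP
    rw [DimSch.dim_quotient_eq_trd k hW ξ hξ]
    exact_mod_cast hdim ξ hmax
  obtain ⟨G, hG0, hG⟩ := BrHyp.affine_good (k := k) hR1 j
    (fun l : Fin N => th k N g f j U (MvPolynomial.X (j.succAbove l))) hT
  refine ⟨G, hG0, fun v hv => ?_⟩
  obtain ⟨h1, h2⟩ := hG v hv
  rw [← th_lin k N g f j U halg v] at h1 h2
  exact ⟨h1, h2⟩

end K960.BrChart
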