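import Groth.Agent.Variety.K426.Cut
import Groth.Agent.Pi1C.LefReduce
import Groth.Agent.VarietyA.RegSmoothSch
import Groth.Agent.FlatMor.K260.DedFlat
import Groth.Agent.FBase.K106.Dim

/-!
# Dimension theory for families over a curve
-/

set_option autoImplicit false
universe u

open CategoryTheory CategoryTheory.Limits AlgebraicGeometry TopologicalSpace
open Groth.Agent.VarietyB

namespace K960.BrDim

variable (k : Type u) [Field k]

section one

variable {Z : Scheme.{u}} [Z.Over (Spec (CommRingCat.of k))] [LocallyOfFiniteType (Z ↘ (Spec (CommRingCat.of k)))]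

/-- A point of an irreducible scheme with residue field of maximal transcendence degree is the generic point. -/
theorem eq_genericPoint_of_trd_le [IrreducibleSpace Z] (z : Z)
    (h : DimSch.trd k Z (genericPoint Z) ≤ DimSch.trd k Z z) : z = genericPoint Z := by
  by_contra hne
  have := K426.Cut.trd_lt k (genericPoint_specializes z) (Ne.symm hne)
  omega

end one

section two

variable {Z S : Scheme.{u}} [Z.Over (Spec (CommRingCat.of k))] [S.Over (Spec (CommRingCat.of k))]
  [LocallyOfFiniteType (Z ↘ (Spec (CommRingCat.of k)))] [LocallyOfFiniteType (S ↘ (Spec (CommRingCat.of k)))]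
  [IsIntegral Z] [IrreducibleSpace S]

/-- The local rings of a smooth scheme over the generic point of the base are valuation rings when the relative
dimension is at most one. -/
theorem valuationRing_of_over_genericPoint (q : Z ⟶ S)
    (hq : q ≫ (S ↘ (Spec (CommRingCat.of k))) = Z ↘ (Spec (CommRingCat.of k)))
    (hreg : ∀ z : Z, IsRegularLocalRing (Z.presheaf.stalk z))
    (hdim : topologicalKrullDim Z ≤ topologicalKrullDim S + 1) (z : Z) (hz : q z = genericPoint S) :
    ValuationRing (Z.presheaf.stalk z) := by
  have := hreg z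
  apply K260.DedFlat.valuationRing_of_regular
  have h1 := DimSch.localDim_eq k z
  rw [DimSch.localDim_eq_of_irreducible k z] at h1
  have h2 : DimSch.trd k S (genericPoint S) ≤ DimSch.trd k Z z := by
    rw [← hz]
    exact K426.DimKit.trd_map_le k q hq z
  have h3 : DimSch.trd k Z (genericPoint Z) ≤ DimSch.trd k S (genericPoint S) + 1 := by
    rw [DimSch.topologicalKrullDim_eq_trd k, DimSch.topologicalKrullDim_eq_trd k] at hdim
    exact_mod_cast hdim
  have h4 : DimSch.trd k Z (genericPoint Z) ≤ 1 + DimSch.trd k Z z := by omega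
  generalize ringKrullDim (Z.presheaf.stalk z) = d at h1 ⊢
  induction d with
  | bot => exact bot_le
  | coe d =>
    induction d with
    | top =>
      exfalso
      have h5 : ((DimSch.trd k Z (genericPoint Z) : ℕ) : ℕ∞) = ⊤ + ((DimSch.trd k Z z : ℕ) : ℕ∞) := by
        exact_mod_cast h1
      rw [top_add] at h5
      exact ENat.coe_ne_top _ h5
    | coe m =>
      have h5 : DimSch.trd k Z (genericPoint Z) = m + DimSch.trd k Z z := by exact_mod_cast h1
      have h6 : m ≤ 1 := by omega
      exact_mod_cast h6

end two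

section three

variable {X Z : Scheme.{u}} [X.Over (Spec (CommRingCat.of k))] [Z.Over (Spec (CommRingCat.of k))]
  [LocallyOfFiniteType (X ↘ (Spec (CommRingCat.of k)))] [LocallyOfFiniteType (Z ↘ (Spec (CommRingCat.of k)))]

/-- Integral morphisms preserve transcendence degrees of residue fields. -/
theorem trd_eq_of_isIntegralHom (f : X ⟶ Z) [IsIntegralHom f] (x : X) :
    DimSch.trd k X x = DimSch.trd k Z (f x) := by
  have h := Groth.Agent.Pi1C.LefReduce.dim_closure_eq f x
  rw [K426.DimKit.dim_closure k, K426.DimKit.dim_closure k] at h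
  exact_mod_cast h

end three

section four

variable {X C : Scheme.{u}} [X.Over (Spec (CommRingCat.of k))] [C.Over (Spec (CommRingCat.of k))]
  [LocallyOfFiniteType (X ↘ (Spec (CommRingCat.of k)))] [LocallyOfFiniteType (C ↘ (Spec (CommRingCat.of k)))]
  [IrreducibleSpace C]

/-- Transcendence degrees at the maximal points of a family with equidimensional generic fibre. -/
theorem trd_eq_add_of_isMax (h : X ⟶ C) (hh : h ≫ (C ↘ (Spec (CommRingCat.of k))) = X ↘ (Spec (CommRingCat.of k)))
    [Flat h] (n : ℕ) (hdim : ∀ c : C, ∀ Z ∈ irreducibleComponents (↥(h.fiber c) : Type u),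
      topologicalKrullDim (↥Z : Type u) = n) (ξ : X) (hξ : K260.Gen.IsMax ξ) :
    DimSch.trd k X ξ = DimSch.trd k C (genericPoint C) + n := by
  have h1 : K260.Gen.IsMax (h ξ) := hξ.map (Flat.generalizingMap h)
  have h2 : h ξ = genericPoint C := (h1 _ (genericPoint_specializes _)).symm
  have h3 : K260.Gen.IsMax (h.asFiber ξ) := by
    intro y hy
    have h4 : h.fiberι _ y ⤳ h.fiberι _ (h.asFiber ξ) := hy.map (h.fiberι _).continuous
    rw [Scheme.Hom.fiberι_asFiber] at h4
    have h5 := hξ _ h4
    have h6 : h.fiberι _ y = h.fiberι _ (h.asFiber ξ) := by rw [Scheme.Hom.fiberι_asFiber]; exact h5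
    exact (h.fiberι _).isEmbedding.injective h6
  have h4 := hdim (h ξ) _ ((K260.Gen.isMax_iff _).1 h3)
  let _ : (h.fiber (h ξ)).Over (Spec (CommRingCat.of (C.residueField (h ξ)))) :=
      ⟨h.fiberToSpecResidueField (h ξ)⟩
  have : LocallyOfFiniteType h := K426.DimKit.locallyOfFiniteType_of_over k h hh
  have : LocallyOfFiniteType ((h.fiber (h ξ)) ↘ (Spec (CommRingCat.of (C.residueField (h ξ))))) :=
    inferInstanceAs (LocallyOfFiniteType (pullback.snd h (C.fromSpecResidueField (h ξ))))
  rw [K426.DimKit.dim_closure (C.residueField (h ξ)) (h.fiber (h ξ)) (h.asFiber ξ)] at h4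
  have h5 := K426.DimKit.trd_fiber k h hh (h ξ) (h.asFiber ξ)
  rw [Scheme.Hom.fiberι_asFiber] at h5
  have h6 : DimSch.trd (C.residueField (h ξ)) (h.fiber (h ξ)) (h.asFiber ξ) = n := by exact_mod_cast h4
  rw [h6] at h5
  rw [h5, ← h2]

end four

end K960.BrDim
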