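import Mathlib.AlgebraicGeometry.Morphisms.Flat
import Mathlib.AlgebraicGeometry.FunctionField
import Mathlib.RingTheory.Flat.TorsionFree
import Groth.Agent.FlatMor.K260.Gen
import Groth.Agent.Flat2D.GenFib
import Groth.Agent.S0386

/-!
# Flatness of reduced schemes at points over regular points of dimension at most one
-/

set_option autoImplicit false
universe u

open CategoryTheory AlgebraicGeometry TopologicalSpace

namespace K960.BrFlat

/-- A ring map from a valuation ring to a reduced ring all of whose minimal primes contract to zero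
is flat. -/
theorem flat_of_minimalPrimes {R B : Type u} [CommRing R] [IsDomain R] [ValuationRing R] [CommRing B]
    [_root_.IsReduced B] (φ : R →+* B) (h : ∀ Q ∈ minimalPrimes B, Q.comap φ = ⊥) : φ.Flat := by
  let _ := φ.toAlgebra
  change Module.Flat R B
  rw [Module.Flat.flat_iff_torsion_eq_bot_of_isBezout, Submodule.eq_bot_iff]
  intro b hb
  rw [Submodule.mem_torsion_iff] at hb
  obtain ⟨a, ha⟩ := hb
  have ha' : φ a * b = 0 := ha
  have h0 : (a : R) ≠ 0 := nonZeroDivisors.coe_ne_zero a
  have hb : b ∈ nilradical B := by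
    rw [nilradical, ← Ideal.sInf_minimalPrimes, Submodule.mem_sInf]
    intro (Q : Ideal B) hQ
    have hp : Q.IsPrime := hQ.1.1
    have h1 : φ a * b ∈ Q := by rw [ha']; exact Q.zero_mem
    rcases hp.mem_or_mem h1 with h2 | h2
    · have h3 : (a : R) ∈ Q.comap φ := h2
      rw [h Q hQ] at h3
      exact absurd h3 h0
    · exact h2
  rw [nilradical_eq_zero] at hb
  exact hb

/-- The generic point in the spectrum of a stalk of an integral scheme. -/
theorem eq_bot_of_fromSpecStalk {Y : Scheme.{u}} [IsIntegral Y] (y : Y) (p : Spec (Y.presheaf.stalk y))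
    (h : Y.fromSpecStalk y p = genericPoint Y) : p.asIdeal = ⊥ := by
  let b : Spec (Y.presheaf.stalk y) := (⟨⊥, Ideal.isPrime_bot⟩ : PrimeSpectrum (Y.presheaf.stalk y))
  have h1 : Y.fromSpecStalk y p ⤳ Y.fromSpecStalk y b := by rw [h]; exact genericPoint_specializes _
  have h2 : p ⤳ b := (Y.fromSpecStalk y).isEmbedding.isInducing.specializes_iff.1 h1
  have h3 : p.asIdeal ≤ b.asIdeal := (PrimeSpectrum.le_iff_specializes (x := p) (y := b)).2 h2
  exact le_bot_iff.1 h3

/-- Flatness at a point of a reduced scheme mapping to a valuation ring stalk of an integral scheme, when the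
maximal points specializing to the point map to the generic point. -/
theorem stalkMap_flat {X Y : Scheme.{u}} [IsReduced X] [IsIntegral Y] (f : X ⟶ Y) (x : X)
    (hv : ValuationRing (Y.presheaf.stalk (f x)))
    (h : ∀ ξ : X, ξ ⤳ x → K260.Gen.IsMax ξ → f ξ = genericPoint Y) : (f.stalkMap x).hom.Flat := by
  apply flat_of_minimalPrimes
  intro Q hQ
  let q : Spec (X.presheaf.stalk x) := (⟨Q, hQ.1.1⟩ : PrimeSpectrum (X.presheaf.stalk x))
  have hξx : X.fromSpecStalk x q ⤳ x := by
    have : X.fromSpecStalk x q ∈ Set.range (X.fromSpecStalk x) := ⟨q, rfl⟩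
    rw [Scheme.range_fromSpecStalk] at this
    exact this
  have hmax : K260.Gen.IsMax (X.fromSpecStalk x q) := by
    intro y hy
    have : y ∈ Set.range (X.fromSpecStalk x) := by
      rw [Scheme.range_fromSpecStalk]
      exact hy.trans hξx
    obtain ⟨q', rfl⟩ := this
    have h1 : q' ⤳ q := (X.fromSpecStalk x).isEmbedding.isInducing.specializes_iff.1 hy
    have h2 : q'.asIdeal ≤ Q := (PrimeSpectrum.le_iff_specializes (x := q') (y := q)).2 h1
    have h3 : Q ≤ q'.asIdeal := hQ.2 ⟨q'.isPrime, bot_le⟩ h2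
    have h4 : q' = q := PrimeSpectrum.ext (le_antisymm h2 h3)
    rw [h4]
  have h2 := h _ hξx hmax
  have h3 : Y.fromSpecStalk (f x) (Spec.map (f.stalkMap x) q) = genericPoint Y := by
    rw [← h2, ← Scheme.Hom.comp_apply, Scheme.SpecMap_stalkMap_fromSpecStalk, Scheme.Hom.comp_apply]
  exact eq_bot_of_fromSpecStalk _ _ h3

/-- Flatness over the generic point of the base spreads out to an open. -/
theorem exists_open_flat {X Z S : Scheme.{u}} [IsReduced X] [IsIntegral Z] [IrreducibleSpace S] (f : X ⟶ Z)
    [LocallyOfFinitePresentation f] (q : Z ⟶ S) [QuasiCompact (f ≫ q)]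
    (hv : ∀ z : Z, q z = genericPoint S → ValuationRing (Z.presheaf.stalk z))
    (h : ∀ ξ : X, K260.Gen.IsMax ξ → q (f ξ) = genericPoint S → f ξ = genericPoint Z) :
    ∃ V : S.Opens, genericPoint S ∈ V ∧ ∀ x : X, q (f x) ∈ V → (f.stalkMap x).hom.Flat := by
  have hop := Groth.Agent.S0386.result f
  obtain ⟨V, hV, hV'⟩ := Groth.Agent.Flat2D.GenFib.exists_open_disjoint (f ≫ q) (T := {x : X | (f.stalkMap x).hom.Flat}ᶜ)
    hop.isClosed_compl fun t ht hqt => by
      apply ht
      have hqt' : q (f t) = genericPoint S := hqt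
      refine stalkMap_flat f t (hv _ hqt') fun ξ hξ hmax => h ξ hmax ?_
      have h1 : q (f ξ) ⤳ genericPoint S := by
        rw [← hqt']
        exact (hξ.map f.continuous).map q.continuous
      exact (h1.antisymm (genericPoint_specializes _)).eq
  refine ⟨V, hV, fun x hx => ?_⟩
  by_contra hc
  exact hV' x hx hc

end K960.BrFlat
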