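import Groth.Agent.SmVar.K658.SecSmooth
import Mathlib.LinearAlgebra.Basis.VectorSpace

/-!
# Hyperplanes avoiding points
-/

set_option autoImplicit false
universe u
open CategoryTheory CategoryTheory.Limits AlgebraicGeometry TopologicalSpace Opposite

namespace K960.BrLin

open K658

variable {k : Type u} [Field k] {N : ℕ}

theorem lin_add (v w : Fin (N + 1) → k) :
    ((ProjSec.lin (v + w) : CohB1.polyGrading N k 1) : MvPolynomial (Fin (N + 1)) k) =
      (ProjSec.lin v : CohB1.polyGrading N k 1) + (ProjSec.lin w : CohB1.polyGrading N k 1) := by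
  change ∑ i, MvPolynomial.C ((v + w) i) * MvPolynomial.X i = (∑ i, MvPolynomial.C (v i) * MvPolynomial.X i) +
    ∑ i, MvPolynomial.C (w i) * MvPolynomial.X i
  rw [← Finset.sum_add_distrib]
  refine Finset.sum_congr rfl fun i _ => ?_
  rw [Pi.add_apply, map_add, add_mul]

theorem lin_smul (c : k) (v : Fin (N + 1) → k) :
    ((ProjSec.lin (c • v) : CohB1.polyGrading N k 1) : MvPolynomial (Fin (N + 1)) k) =
      MvPolynomial.C c * ((ProjSec.lin v : CohB1.polyGrading N k 1) : MvPolynomial (Fin (N + 1)) k) := by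
  change ∑ i, MvPolynomial.C ((c • v) i) * MvPolynomial.X i = MvPolynomial.C c * (∑ i, MvPolynomial.C (v i) * MvPolynomial.X i)
  rw [Finset.mul_sum]
  refine Finset.sum_congr rfl fun i _ => ?_
  rw [Pi.smul_apply, smul_eq_mul, map_mul, mul_assoc]

theorem lin_single (i : Fin (N + 1)) :
    ((ProjSec.lin (Pi.single i 1) : CohB1.polyGrading N k 1) : MvPolynomial (Fin (N + 1)) k) = MvPolynomial.X i := by
  classical
  change ∑ l, MvPolynomial.C ((Pi.single i (1 : k) : Fin (N + 1) → k) l) * MvPolynomial.X l = _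
  rw [Finset.sum_eq_single i]
  · rw [Pi.single_eq_same, map_one, one_mul]
  · intro j _ hj
    rw [Pi.single_eq_of_ne hj, map_zero, zero_mul]
  · intro h; exact absurd (Finset.mem_univ i) h

/-- The linear forms vanishing at a point. -/
noncomputable def sub (y : Proj (CohB1.polyGrading N k)) : Submodule k (Fin (N + 1) → k) where
  carrier := {v | ((ProjSec.lin v : CohB1.polyGrading N k 1) : MvPolynomial (Fin (N + 1)) k) ∈ y.asHomogeneousIdeal}
  add_mem' := by
    intro a b ha hb
    rw [Set.mem_ofPred_eq, lin_add]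
    exact add_mem ha hb
  zero_mem' := by
    rw [Set.mem_ofPred_eq]
    have h : ((ProjSec.lin (0 : Fin (N + 1) → k) : CohB1.polyGrading N k 1) : MvPolynomial (Fin (N + 1)) k) = 0 := by
      have := lin_smul (N := N) (0 : k) 0
      rw [zero_smul, map_zero, zero_mul] at this
      exact this
    rw [h]
    exact zero_mem _
  smul_mem' := by
    intro c a ha
    rw [Set.mem_ofPred_eq, lin_smul]
    exact Ideal.mul_mem_left (y.asHomogeneousIdeal.toIdeal) _ ha

theorem mem_sub (y : Proj (CohB1.polyGrading N k)) (v : Fin (N + 1) → k) : v ∈ sub y ↔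
    ((ProjSec.lin v : CohB1.polyGrading N k 1) : MvPolynomial (Fin (N + 1)) k) ∈ y.asHomogeneousIdeal := Iff.rfl

theorem sub_lt_top (y : Proj (CohB1.polyGrading N k)) : sub y < ⊤ := by
  rw [lt_top_iff_ne_top]
  intro h
  obtain ⟨j, hj⟩ := ProjSec.exists_mem_W (𝟙 (Proj (CohB1.polyGrading N k))) y
  have h1 : (Pi.single j 1 : Fin (N + 1) → k) ∈ sub y := h ▸ Submodule.mem_top
  rw [mem_sub, lin_single] at h1
  exact hj h1

/-- The hyperplanes not through a given point. -/
theorem exists_linear (y : Proj (CohB1.polyGrading N k)) : ∃ G : MvPolynomial (Fin (N + 1)) k, G ≠ 0 ∧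
    ∀ v, MvPolynomial.eval v G ≠ 0 →
      ((ProjSec.lin v : CohB1.polyGrading N k 1) : MvPolynomial (Fin (N + 1)) k) ∉ y.asHomogeneousIdeal := by
  classical
  obtain ⟨φ, hφ, hle⟩ := Submodule.exists_le_ker_of_lt_top (sub y) (sub_lt_top y)
  have hG : ∀ v, MvPolynomial.eval v (∑ i, MvPolynomial.C (φ (Pi.single i 1)) * MvPolynomial.X i) = φ v := by
    intro v
    rw [map_sum]
    conv_rhs => rw [← Finset.univ_sum_single v]
    rw [map_sum]
    refine Finset.sum_congr rfl fun i _ => ?_
    rw [map_mul, MvPolynomial.eval_C, MvPolynomial.eval_X, mul_comm, ← smul_eq_mul, ← map_smul]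
    congr 1
    rw [← Pi.single_smul, smul_eq_mul, mul_one]
  refine ⟨∑ i, MvPolynomial.C (φ (Pi.single i 1)) * MvPolynomial.X i, ?_, fun v hv hmem => ?_⟩
  · intro h0
    apply hφ
    ext v
    rw [LinearMap.comp_apply, ← hG, h0, map_zero]
    rfl
  · apply hv
    rw [hG]
    exact hle ((mem_sub y v).2 hmem)

/-- The generic point of projective space. -/
noncomputable def gen (k : Type u) [Field k] (N : ℕ) : Proj (CohB1.polyGrading N k) where
  asHomogeneousIdeal := ⊥
  isPrime := by
    change (⊥ : HomogeneousIdeal (CohB1.polyGrading N k)).toIdeal.IsPrime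
    rw [HomogeneousIdeal.toIdeal_bot]
    exact Ideal.isPrime_bot
  not_irrelevant_le := by
    intro h
    have h1 : (MvPolynomial.X 0 : MvPolynomial (Fin (N + 1)) k) ∈ HomogeneousIdeal.irrelevant (CohB1.polyGrading N k) := by
      rw [HomogeneousIdeal.mem_irrelevant_iff, GradedRing.proj_apply,
        DirectSum.decompose_of_mem_ne (CohB1.polyGrading N k) (MvPolynomial.isHomogeneous_X k 0) one_ne_zero]
    have h2 := h h1
    have h3 : (MvPolynomial.X 0 : MvPolynomial (Fin (N + 1)) k) ∈ (⊥ : HomogeneousIdeal (CohB1.polyGrading N k)).toIdeal := h2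
    rw [HomogeneousIdeal.toIdeal_bot] at h3
    exact MvPolynomial.X_ne_zero _ h3

theorem lin_ne_zero {v : Fin (N + 1) → k} (hv : v ≠ 0) :
    ((ProjSec.lin v : CohB1.polyGrading N k 1) : MvPolynomial (Fin (N + 1)) k) ≠ 0 := by
  intro h
  apply hv
  funext i
  rw [← ProjSec.coeff_lin v i, h]
  rfl

theorem secOf_ne_zero {v : Fin (N + 1) → k} (hv : v ≠ 0) : SecSmooth.secOf (ProjSec.lin v : CohB1.polyGrading N k 1) ≠ 0 := by
  intro h0
  have h1 := SecSmooth.ideal_zeroScheme (ProjSec.lin v : CohB1.polyGrading N k 1) (0 : Fin (N + 1))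
  rw [h0] at h1
  have h2 : (PicF2.zeroScheme (Twist.twist (CohB1.polyGrading N k) 1) 0).ideal (SecSmooth.Daff k N 0) =
      Ideal.span {0} := by
    refine Groth.Agent.Pi1C.ZeroScheme.ideal_eq_span _ (SecSmooth.isInvertible k N) (SecSmooth.Daff k N 0)
      (Groth.Agent.Ega2.H298.ProjRatio.isGen_glob (CohB1.polyGrading N k) (ProjSec.X1 k N 0)) ?_
    rw [zero_smul]
    rfl
  have h3 : Groth.Agent.Ega2.H298.ProjRatio.ratio (CohB1.polyGrading N k) (ProjSec.X1 k N 0) (ProjSec.lin v) ∈
      (Ideal.span {0} : Ideal Γ(Proj (CohB1.polyGrading N k), (SecSmooth.Daff k N 0).1)) := by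
    rw [← h2]
    refine h1.symm ▸ ?_
    exact Ideal.subset_span rfl
  have h4 : Groth.Agent.Ega2.H298.ProjRatio.ratio (CohB1.polyGrading N k) (ProjSec.X1 k N 0) (ProjSec.lin v) = 0 :=
    zero_dvd_iff.1 (Ideal.mem_span_singleton.1 h3)
  have h5 := Groth.Agent.Ega2.H298.ProjRatio.basicOpen_ratio (CohB1.polyGrading N k) (ProjSec.X1 k N 0) (ProjSec.lin v)
  rw [h4, Scheme.basicOpen_zero] at h5
  have h6 : gen k N ∈ (⊥ : (Proj (CohB1.polyGrading N k)).Opens) := by
    rw [h5]
    refine ⟨fun h7 => ?_, fun h7 => ?_⟩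
    · have h8 : (MvPolynomial.X 0 : MvPolynomial (Fin (N + 1)) k) ∈
        (⊥ : HomogeneousIdeal (CohB1.polyGrading N k)).toIdeal := h7
      rw [HomogeneousIdeal.toIdeal_bot] at h8
      exact MvPolynomial.X_ne_zero _ h8
    · have h8 : ((ProjSec.lin v : CohB1.polyGrading N k 1) : MvPolynomial (Fin (N + 1)) k) ∈
        (⊥ : HomogeneousIdeal (CohB1.polyGrading N k)).toIdeal := h7
      rw [HomogeneousIdeal.toIdeal_bot] at h8
      exact lin_ne_zero hv h8
  exact h6

end K960.BrLin
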