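import Groth.Agent.BranchVar.K960.BrChart
import Groth.Agent.BranchVar.K960.BrLin
import Mathlib.Algebra.MvPolynomial.Funext

/-!
# The generic hyperplane section of a family over a curve
-/

set_option autoImplicit false
universe u
open CategoryTheory CategoryTheory.Limits AlgebraicGeometry TopologicalSpace Opposite
open Groth.Agent.VarietyB Groth.Agent.VarietyB.ProjGlue Groth.Agent.Ega3B.KunnethSec
open Groth.Agent.Ega2.H298.ProjRatio Groth.Agent.Ega2.H298.ProjExt

namespace K960.BrGlob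

open K658 BrChart

variable {k : Type u} [Field k] {N : ℕ} {C : Scheme.{u}} {g : C ⟶ Spec (CommRingCat.of k)}

/-- The hyperplane with given coefficients. -/
noncomputable def Hyp (v : Fin (N + 1) → k) : (CohB1.ProjSpace N k).IdealSheafData :=
  PicF2.zeroScheme (Twist.twist (CohB1.polyGrading N k) 1) (SecSmooth.secOf (ProjSec.lin v))

/-- A family of reduced equidimensional schemes. -/
structure Good (m : ℕ) {X : Scheme.{u}} (f : X ⟶ pullback (CohB1.ProjSpace.toSpec N k) g) : Prop where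
  isFinite : IsFinite f
  isReduced : IsReduced X
  flat : Flat (f ≫ pullback.snd (CohB1.ProjSpace.toSpec N k) g)
  dim : ∀ Z ∈ irreducibleComponents (↥X : Type u), topologicalKrullDim (↥Z : Type u) = (m : WithBot ℕ∞)

variable {X : Scheme.{u}} (f : X ⟶ pullback (CohB1.ProjSpace.toSpec N k) g)

theorem mem_basicOpen_th (j : Fin (N + 1)) (U : C.Opens) (x : X) (hx : x ∈ W k N g f j U)
    (h : CohB1.polyGrading N k 1) :
    x ∈ X.basicOpen (th k N g f j U h) ↔
      (h : MvPolynomial (Fin (N + 1)) k) ∉ (f1 k N g f x : Proj (CohB1.polyGrading N k)).asHomogeneousIdeal := by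
  rw [th_ratio, Scheme.basicOpen_appLE]
  have h1 := basicOpen_ratio (CohB1.polyGrading N k) (ProjSec.X1 k N j) h
  constructor
  · intro h2
    have h3 : f1 k N g f x ∈ (Proj (CohB1.polyGrading N k)).basicOpen
      (ratio (CohB1.polyGrading N k) (ProjSec.X1 k N j) h) := h2.2
    rw [h1] at h3
    exact h3.2
  · intro h2
    refine ⟨hx, ?_⟩
    have h3 : f1 k N g f x ∈ (Proj (CohB1.polyGrading N k)).basicOpen
      (ratio (CohB1.polyGrading N k) (ProjSec.X1 k N j) h) := by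
      rw [h1]
      exact ⟨(W_le1 k N g f j U) hx, h2⟩
    exact h3

theorem mem_support_Hyp (v : Fin (N + 1) → k) (y : CohB1.ProjSpace N k) : y ∈ (Hyp v).support ↔
    ((ProjSec.lin v : CohB1.polyGrading N k 1) : MvPolynomial (Fin (N + 1)) k) ∈
      (y : Proj (CohB1.polyGrading N k)).asHomogeneousIdeal :=
  SecSmooth.mem_support_iff (ProjSec.lin v) y

theorem ideal_comap_Hyp [IsAffineHom f] (v : Fin (N + 1) → k) (j : Fin (N + 1)) {U : C.Opens} (hU : IsAffineOpen U) :
    ((Hyp v).comap (f1 k N g f)).ideal ⟨W k N g f j U, isAffineOpen_W k N g f j hU⟩ =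
      Ideal.span {th k N g f j U (ProjSec.lin v : CohB1.polyGrading N k 1)} := by
  rw [th_ratio]
  refine (Groth.Agent.Divis.IdealComap.ideal_comap (Hyp v) (f1 k N g f) ⟨D k N j, isAffineOpen_D k N j⟩
    ⟨W k N g f j U, isAffineOpen_W k N g f j hU⟩ (W_le1 k N g f j U)).trans ?_
  have h1 : (Hyp v).ideal ⟨D k N j, isAffineOpen_D k N j⟩ =
      Ideal.span {ratio (CohB1.polyGrading N k) (ProjSec.X1 k N j) (ProjSec.lin v)} :=
    SecSmooth.ideal_zeroScheme (ProjSec.lin v) j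
  rw [h1]
  refine (Ideal.map_span _ _).trans ?_
  exact congrArg Ideal.span (Set.image_singleton)

theorem exists_mem_chart (s : Set C.affineOpens) (hs : (Set.univ : Set C) = ⋃ i ∈ s, (i.1 : Set C)) (x : X) :
    ∃ (j : Fin (N + 1)) (U : s), x ∈ W k N g f j U.1.1 := by
  obtain ⟨j, hj⟩ := ProjSec.exists_mem_W (k := k) (n := N) (f1 k N g f) x
  have h1 : f2 k N g f x ∈ (⋃ i ∈ s, (i.1 : Set C)) := hs ▸ Set.mem_univ _
  simp only [Set.mem_iUnion] at h1
  obtain ⟨U, hU, hx⟩ := h1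
  exact ⟨j, ⟨U, hU⟩, hj, hx⟩

/-- Reducedness and flatness of the generic hyperplane section. -/
theorem exists_polynomial [CharZero k] [Smooth g] [IsIntegral C] [CompactSpace C] (hC1 : topologicalKrullDim C ≤ 1)
    [IsFinite f] [IsReduced X]
    [Flat (f2 k N g f)] [X.Over (Spec (CommRingCat.of k))] (hX : f2 k N g f ≫ g = X ↘ (Spec (CommRingCat.of k)))
    (hdim : ∀ ξ : X, K260.Gen.IsMax ξ → 2 ≤ DimSch.trd k X ξ) :
    ∃ G : MvPolynomial (Fin (N + 1)) k, G ≠ 0 ∧ ∀ v : Fin (N + 1) → k, MvPolynomial.eval v G ≠ 0 →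
      IsReduced ((Hyp v).comap (f1 k N g f)).subscheme ∧
        Flat (((Hyp v).comap (f1 k N g f)).subschemeι ≫ f2 k N g f) := by
  classical
  obtain ⟨s, hsf, hs⟩ := isCompact_and_isOpen_iff_finite_and_eq_biUnion_affineOpens.1
    (⟨isCompact_univ, isOpen_univ⟩ : IsCompact (Set.univ : Set C) ∧ IsOpen (Set.univ : Set C))
  have := hsf.fintype
  have key : ∀ (j : Fin (N + 1)) (U : s), ∃ G : MvPolynomial (Fin (N + 1)) k, G ≠ 0 ∧
      ∀ v : Fin (N + 1) → k, MvPolynomial.eval v G ≠ 0 → (U.1.1 : Set C).Nonempty →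
      _root_.IsReduced (Γ(X, W k N g f j U.1.1) ⧸ Ideal.span {th k N g f j U.1.1 (ProjSec.lin v : CohB1.polyGrading N k 1)}) ∧
      ((Ideal.Quotient.mk (Ideal.span {th k N g f j U.1.1 (ProjSec.lin v : CohB1.polyGrading N k 1)})).comp
        ((f2 k N g f).appLE U.1.1 (W k N g f j U.1.1) (W_le2 k N g f j U.1.1)).hom).Flat := by
    intro j U
    by_cases hU : (U.1.1 : Set C).Nonempty
    · have : Nonempty U.1.1 := hU.to_subtype
      obtain ⟨G, h1, h2⟩ := chart_good k N g f hC1 hX hdim j U.1.2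
      exact ⟨G, h1, fun v hv _ => h2 v hv⟩
    · exact ⟨1, one_ne_zero, fun v _ h => absurd h hU⟩
  choose G hG0 hG using key
  refine ⟨∏ j, ∏ U, G j U, Finset.prod_ne_zero_iff.2 fun j _ => Finset.prod_ne_zero_iff.2 fun U _ => hG0 j U,
    fun v hv => ?_⟩
  have hv' : ∀ j U, MvPolynomial.eval v (G j U) ≠ 0 := by
    intro j U h0
    apply hv
    rw [map_prod]
    apply Finset.prod_eq_zero (Finset.mem_univ j)
    rw [map_prod]
    exact Finset.prod_eq_zero (Finset.mem_univ U) h0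
  let I := {p : Fin (N + 1) × s // (p.2.1.1 : Set C).Nonempty}
  refine BrCover.isReduced_and_flat (f2 k N g f) ((Hyp v).comap (f1 k N g f)) (I := I)
    (fun p => ⟨W k N g f p.1.1 p.1.2.1.1, isAffineOpen_W k N g f p.1.1 p.1.2.1.2⟩) (fun p => p.1.2.1)
    (fun p => W_le2 k N g f p.1.1 p.1.2.1.1) (fun x => ?_) (fun p => ?_) (fun p => ?_)
  · obtain ⟨j, U, hx⟩ := exists_mem_chart f s hs x
    exact ⟨⟨(j, U), ⟨_, W_le2 k N g f j U.1.1 hx⟩⟩, hx⟩
  · rw [ideal_comap_Hyp f v p.1.1 p.1.2.1.2]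
    exact (hG p.1.1 p.1.2 v (hv' _ _) p.2).1
  · rw [ideal_comap_Hyp f v p.1.1 p.1.2.1.2]
    exact (hG p.1.1 p.1.2 v (hv' _ _) p.2).2

/-- The dimension drops by one. -/
theorem trd_section [IsAffineHom f] [X.Over (Spec (CommRingCat.of k))]
    [LocallyOfFiniteType (X ↘ (Spec (CommRingCat.of k)))] (m : ℕ)
    (hdim : ∀ ξ : X, K260.Gen.IsMax ξ → DimSch.trd k X ξ = m + 1) (v : Fin (N + 1) → k)
    (hv : ∀ ξ : X, K260.Gen.IsMax ξ → f1 k N g f ξ ∉ (Hyp v).support) {Y : Scheme.{u}}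
    [Y.Over (Spec (CommRingCat.of k))] [LocallyOfFiniteType (Y ↘ (Spec (CommRingCat.of k)))] (i : Y ⟶ X)
    [IsClosedImmersion i]
    (hr : Set.range i = (f1 k N g f) ⁻¹' (Hyp v).support) (ζ : Y) (hζ : K260.Gen.IsMax ζ) :
    DimSch.trd k Y ζ = m := by
  obtain ⟨j, hj⟩ := ProjSec.exists_mem_W (k := k) (n := N) (f1 k N g f) (i ζ)
  obtain ⟨U, hU, hxU, -⟩ := exists_isAffineOpen_mem_and_subset (X := C) (U := ⊤) (x := f2 k N g f (i ζ)) trivial
  have hW := isAffineOpen_W k N g f j hU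
  have hc : i ζ ∈ W k N g f j U := ⟨hj, hxU⟩
  obtain ⟨ξ, hξ, hmax⟩ := K260.Gen.exists_isMax (i ζ)
  have hci : f1 k N g f (i ζ) ∈ (Hyp v).support := by
    have : i ζ ∈ (f1 k N g f) ⁻¹' (Hyp v).support := hr ▸ ⟨ζ, rfl⟩
    exact this
  have h1 : DimSch.trd k X ξ = DimSch.trd k X (i ζ) + 1 := by
    refine K426.Cut.trd_eq_add_one k hξ (W k N g f j U) hW hc
      (th k N g f j U (ProjSec.lin v : CohB1.polyGrading N k 1)) ?_ (fun z hz hzc hzs => ?_) ?_
    · rw [mem_basicOpen_th f j U _ hc, not_not]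
      exact (mem_support_Hyp v _).1 hci
    · have hzW : z ∈ W k N g f j U := hzc.mem_open (W k N g f j U).2 hc
      rw [mem_basicOpen_th f j U _ hzW, not_not] at hzs
      have h2 : z ∈ Set.range i := by
        rw [hr]
        exact (mem_support_Hyp v _).2 hzs
      obtain ⟨y, rfl⟩ := h2
      have h3 : y ⤳ ζ := i.isClosedEmbedding.isInducing.specializes_iff.1 hzc
      rw [hζ y h3]
    · intro h2
      apply hv ξ hmax
      rw [h2]
      exact hci
  rw [hdim ξ hmax] at h1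
  rw [BrDim.trd_eq_of_isIntegralHom k i ζ]
  omega

/-- A Noetherian sober space has finitely many maximal points. -/
theorem finite_isMax (T : Type*) [TopologicalSpace T] [QuasiSober T] [T0Space T] [NoetherianSpace T] :
    {ξ : T | K260.Gen.IsMax ξ}.Finite := by
  refine Set.Finite.of_finite_image (f := fun ξ : T => closure {ξ})
    (TopologicalSpace.NoetherianSpace.finite_irreducibleComponents.subset ?_) ?_
  · rintro _ ⟨ξ, hξ, rfl⟩
    exact (K260.Gen.isMax_iff ξ).1 hξ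
  · intro a _ b _ hab
    exact (inseparable_iff_closure_eq.2 hab).eq

/-- The generic hyperplane section of a good family is a good family. -/
theorem step [CharZero k] (hC : Curve.IsSmoothProperCurve k C g) (m : ℕ) (hm : 1 ≤ m)
    (hf : Good (m + 1) f) :
    ∃ v : Fin (N + 1) → k, v ≠ 0 ∧
      Good m (pullback.fst (f ≫ pullback.fst (CohB1.ProjSpace.toSpec N k) g) (Hyp v).subschemeι ≫ f) := by
  classical
  obtain ⟨hg1, hg2, hg3, hg4⟩ := hC
  obtain ⟨hf1, hf2, hf3, hf4⟩ := hf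
  have hpr : IsProper (CohB1.ProjSpace.toSpec N k) := Groth.Agent.VarietyB.ProjSpaceProper.isProper_toSpec N k
  let _ : X.Over (Spec (CommRingCat.of k)) := ⟨f2 k N g f ≫ g⟩
  have hlX : LocallyOfFiniteType (X ↘ (Spec (CommRingCat.of k))) :=
    inferInstanceAs (LocallyOfFiniteType (f2 k N g f ≫ g))
  have hpX : IsProper (X ↘ (Spec (CommRingCat.of k))) :=
    inferInstanceAs (IsProper (f2 k N g f ≫ g))
  have hcC : CompactSpace C := QuasiCompact.compactSpace_of_compactSpace g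
  have hcX : CompactSpace X := QuasiCompact.compactSpace_of_compactSpace (X ↘ (Spec (CommRingCat.of k)))
  have hlN : IsLocallyNoetherian X := LocallyOfFiniteType.isLocallyNoetherian (X ↘ (Spec (CommRingCat.of k)))
  have hN : IsNoetherian X := {}
  have hNS : NoetherianSpace X := inferInstance
  have hdim : ∀ ξ : X, K260.Gen.IsMax ξ → DimSch.trd k X ξ = m + 1 := by
    intro ξ hξ
    have h1 := hf4 _ ((K260.Gen.isMax_iff ξ).1 hξ)
    rw [K426.DimKit.dim_closure k X ξ] at h1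
    exact_mod_cast h1
  obtain ⟨G, hG0, hG⟩ := exists_polynomial f (le_of_eq hg4) rfl (fun ξ hξ => by rw [hdim ξ hξ]; omega)
  choose L hL0 hL using fun ξ : X => BrLin.exists_linear (k := k) (N := N) (f1 k N g f ξ)
  have hS := finite_isMax X
  have hP0 : G * (∏ ξ ∈ hS.toFinset, L ξ) * MvPolynomial.X 0 ≠ 0 :=
    mul_ne_zero (mul_ne_zero hG0 (Finset.prod_ne_zero_iff.2 fun ξ _ => hL0 ξ)) (MvPolynomial.X_ne_zero _)
  have hinf : Infinite k := Infinite.of_injective (fun n : ℕ => (n : k)) Nat.cast_injective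
  obtain ⟨v, hv⟩ : ∃ v, MvPolynomial.eval v (G * (∏ ξ ∈ hS.toFinset, L ξ) * MvPolynomial.X 0) ≠ 0 := by
    by_contra hcon
    push Not at hcon
    exact hP0 (MvPolynomial.funext fun v => by rw [hcon v, map_zero])
  rw [map_mul, map_mul, mul_ne_zero_iff, mul_ne_zero_iff, map_prod, Finset.prod_ne_zero_iff, MvPolynomial.eval_X] at hv
  obtain ⟨⟨hv1, hv2⟩, hv3⟩ := hv
  obtain ⟨hred, hflat⟩ := hG v hv1
  have hmax : ∀ ξ : X, K260.Gen.IsMax ξ → f1 k N g f ξ ∉ (Hyp v).support := by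
    intro ξ hξ h
    exact hL ξ v (hv2 ξ (hS.mem_toFinset.2 hξ)) ((mem_support_Hyp v _).1 h)
  let i := pullback.fst (f ≫ pullback.fst (CohB1.ProjSpace.toSpec N k) g) (Hyp v).subschemeι
  have hci : IsClosedImmersion i := inferInstance
  have hi : i = ((Hyp v).comapIso (f1 k N g f)).inv ≫ ((Hyp v).comap (f1 k N g f)).subschemeι :=
    ((Hyp v).comapIso_inv_subschemeι (f1 k N g f)).symm
  refine ⟨v, fun h => hv3 (by rw [h]; rfl), ⟨?_, ?_, ?_, ?_⟩⟩
  · infer_instance
  · exact isReduced_of_isOpenImmersion ((Hyp v).comapIso (f1 k N g f)).inv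
  · have h1 : (i ≫ f) ≫ pullback.snd (CohB1.ProjSpace.toSpec N k) g =
        ((Hyp v).comapIso (f1 k N g f)).inv ≫ (((Hyp v).comap (f1 k N g f)).subschemeι ≫ f2 k N g f) := by
      rw [hi, Category.assoc, Category.assoc]
    change Flat ((i ≫ f) ≫ pullback.snd (CohB1.ProjSpace.toSpec N k) g)
    rw [h1]
    infer_instance
  · intro Z hZ
    let _ : (pullback (f ≫ pullback.fst (CohB1.ProjSpace.toSpec N k) g) (Hyp v).subschemeι).Over
      (Spec (CommRingCat.of k)) := ⟨i ≫ (X ↘ (Spec (CommRingCat.of k)))⟩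
    have hlY : LocallyOfFiniteType ((pullback (f ≫ pullback.fst (CohB1.ProjSpace.toSpec N k) g) (Hyp v).subschemeι) ↘
      (Spec (CommRingCat.of k))) := inferInstanceAs (LocallyOfFiniteType (i ≫ (X ↘ (Spec (CommRingCat.of k)))))
    obtain ⟨ζ, hζ, rfl⟩ := K260.Gen.exists_isMax_of_mem hZ
    rw [K426.DimKit.dim_closure k _ ζ]
    have h2 := trd_section f m hdim v hmax i (by
      change Set.range (pullback.fst (f ≫ pullback.fst (CohB1.ProjSpace.toSpec N k) g) (Hyp v).subschemeι) = _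
      rw [Scheme.Pullback.range_fst, Scheme.IdealSheafData.range_subschemeι]) ζ hζ
    rw [h2]

end K960.BrGlob
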