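import Groth.Agent.BranchVar.K960.BrFlat
import Groth.Agent.BranchVar.K960.BrDim
import Groth.Agent.S0434
import Groth.Agent.Sga3C.GeomRedPerf
import Groth.Agent.Fdesc.GeomAlgClosed
import Groth.Agent.Flat2E.GenericFibre
import Groth.Prelude.Def_Curve
import Mathlib.AlgebraicGeometry.Geometrically.Integral
import Mathlib.AlgebraicGeometry.AlgClosed.Basic

/-!
# Good slices of families over a curve
-/

set_option autoImplicit false
universe u

open CategoryTheory CategoryTheory.Limits AlgebraicGeometry TopologicalSpace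
open Groth.Agent.VarietyB

namespace K960.BrSlice

/-- A property of the restriction over an open passes to base changes along morphisms landing in the open. -/
theorem of_restrict (P : MorphismProperty Scheme.{u}) [P.IsStableUnderBaseChange] {X S T W : Scheme.{u}}
    (f : X ⟶ S) (V : S.Opens) (hf : P (f ∣_ V)) (p : T ⟶ S) (hp : ∀ t, p t ∈ V) {fst : W ⟶ X} {snd : W ⟶ T}
    (h : IsPullback fst snd f p) : P snd := by
  have hr : Set.range p ⊆ Set.range V.ι := by
    rintro _ ⟨t, rfl⟩
    rw [Scheme.Opens.range_ι]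
    exact hp t
  let p' : T ⟶ V := IsOpenImmersion.lift V.ι p hr
  have hp' : p' ≫ V.ι = p := IsOpenImmersion.lift_fac V.ι p hr
  have hR : IsPullback (f ⁻¹ᵁ V).ι (f ∣_ V) f V.ι := (isPullback_morphismRestrict f V).flip
  have hw : fst ≫ f = (snd ≫ p') ≫ V.ι := by rw [Category.assoc, hp', h.w]
  have hL : IsPullback (hR.lift fst (snd ≫ p') hw) snd (f ∣_ V) p' := by
    refine IsPullback.of_right ?_ (hR.lift_snd _ _ _) hR
    rw [hR.lift_fst, hp']
    exact h
  exact MorphismProperty.of_isPullback hL hf

/-- Flatness over an open from the stalks. -/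
theorem flat_restrict {X S : Scheme.{u}} (f : X ⟶ S) (V : S.Opens)
    (h : ∀ x : X, f x ∈ V → (f.stalkMap x).hom.Flat) : Flat (f ∣_ V) := by
  apply Flat.of_stalkMap
  intro x
  have h1 := h x.1 x.2
  have e := morphismRestrictStalkMap f V x
  exact ((RingHom.Flat.respectsIso.arrow_mk_iso_iff e).2 h1)

variable {k : Type u} [Field k] [IsAlgClosed k] [CharZero k]

omit [IsAlgClosed k] [CharZero k] in
/-- The constant slice is a fibre. -/
theorem isPullback_slice {S C : Scheme.{u}} (σ : S ⟶ Spec (CommRingCat.of k)) (g : C ⟶ Spec (CommRingCat.of k))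
    (p : Spec (CommRingCat.of k) ⟶ S) (hp : p ≫ σ = 𝟙 _) (s : C ⟶ pullback σ g)
    (hs1 : s ≫ pullback.fst σ g = g ≫ p) (hs2 : s ≫ pullback.snd σ g = 𝟙 C) :
    IsPullback s g (pullback.fst σ g) p := by
  refine IsPullback.of_right (h₁₂ := pullback.snd σ g) (h₂₂ := σ) (v₁₃ := g) ?_ hs1
    (IsPullback.of_hasPullback σ g).flip
  rw [hs2, hp]
  exact IsPullback.of_horiz_isIso ⟨by simp⟩

section main

variable {X S C : Scheme.{u}} (σ : S ⟶ Spec (CommRingCat.of k)) (g : C ⟶ Spec (CommRingCat.of k))
  (hC : Curve.IsSmoothProperCurve k C g) [Smooth σ] [IsIntegral S]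

include hC in
omit [CharZero k] in
theorem isIntegral_prod : IsIntegral (pullback σ g) := by
  have hCi : IsIntegral C := hC.2.2.1
  have hCs : Smooth g := hC.2.1
  have h1 : GeometricallyReduced g := Groth.Agent.Sga3C.GeomRedPerf.geometricallyReduced_of_isReduced g
  have h2 : GeometricallyIrreducible g :=
    Groth.Agent.Fdesc.GeomAlgClosed.geometricallyIrreducible_of_irreducibleSpace g
  have h3 : GeometricallyIntegral g :=
    GeometricallyIntegral.of_geometricallyReduced_of_geometricallyIrreducible g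
  have h4 : IsLocallyNoetherian S := LocallyOfFiniteType.isLocallyNoetherian σ
  infer_instance

include hC in
/-- Good slices: let `f : X ⟶ S ×_k C` be of finite type with `X` reduced, such that the maximal points of `X` over the
generic point of `S` go to the generic point of `S ×_k C`. For `p` in a nonempty open subset of `S`, the
fibre of `X` at `p` is reduced and flat over `C`. -/
theorem exists_open_slice [IsReduced X] (f : X ⟶ pullback σ g) [LocallyOfFiniteType f] [QuasiCompact f]
    (h : ∀ ξ : X, K260.Gen.IsMax ξ → pullback.fst σ g (f ξ) = genericPoint S →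
      haveI := isIntegral_prod σ g hC
      f ξ = genericPoint (pullback σ g : Scheme.{u})) :
    ∃ V : S.Opens, genericPoint S ∈ V ∧ ∀ p : Spec (CommRingCat.of k) ⟶ S, p ≫ σ = 𝟙 _ → (∀ t, p t ∈ V) →
      ∀ s : C ⟶ pullback σ g, s ≫ pullback.fst σ g = g ≫ p → s ≫ pullback.snd σ g = 𝟙 C →
        Flat (pullback.snd f s) ∧ IsReduced (pullback f s) := by
  have hZi := isIntegral_prod σ g hC
  have hCi : IsIntegral C := hC.2.2.1
  have hCs : Smooth g := hC.2.1
  have hCp : IsProper g := hC.1
  let _ : S.Over (Spec (CommRingCat.of k)) := ⟨σ⟩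
  let _ : C.Over (Spec (CommRingCat.of k)) := ⟨g⟩
  let _ : (pullback σ g).Over (Spec (CommRingCat.of k)) := ⟨pullback.fst σ g ≫ σ⟩
  have i1 : LocallyOfFiniteType (S ↘ Spec (CommRingCat.of k)) := inferInstanceAs (LocallyOfFiniteType σ)
  have i3 : LocallyOfFiniteType ((pullback σ g) ↘ Spec (CommRingCat.of k)) :=
    inferInstanceAs (LocallyOfFiniteType (pullback.fst σ g ≫ σ))
  have hreg : ∀ z : (pullback σ g : Scheme.{u}), IsRegularLocalRing ((pullback σ g : Scheme.{u}).presheaf.stalk z) := by
    intro z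
    exact Groth.Agent.VarietyA.RegSmoothSch.isRegularLocalRing_stalk_of_mem_smoothLocus (pullback.fst σ g ≫ σ) z
      (by rw [(pullback.fst σ g ≫ σ).smoothLocus_eq_top]; trivial)
  have hdim : topologicalKrullDim (pullback σ g : Scheme.{u}) ≤ topologicalKrullDim S + 1 := by
    rw [K106.Dim.topologicalKrullDim_pullback_eq_add σ g, hC.2.2.2]
  have hN : IsLocallyNoetherian (pullback σ g : Scheme.{u}) :=
    LocallyOfFiniteType.isLocallyNoetherian (pullback.fst σ g ≫ σ)
  have hfp : LocallyOfFinitePresentation f := inferInstance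
  obtain ⟨V₁, hV₁, hV₁'⟩ := BrFlat.exists_open_flat f (pullback.fst σ g)
    (fun z hz => BrDim.valuationRing_of_over_genericPoint k (pullback.fst σ g) rfl hreg hdim z hz) h
  have hperf : PerfectField (S.residueField (genericPoint S)) := by
    have : CharZero (S.residueField (genericPoint S)) :=
      charZero_of_injective_ringHom
        (f := (Spec.preimage (S.fromSpecResidueField (genericPoint S) ≫ σ)).hom) (RingHom.injective _)
    infer_instance
  have hgr : GeometricallyReduced ((f ≫ pullback.fst σ g).fiberToSpecResidueField (genericPoint S)) := by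
    have := Groth.Agent.Flat2E.GenericFibre.isReduced_genericFiber (f ≫ pullback.fst σ g)
    exact @Groth.Agent.Sga3C.GeomRedPerf.geometricallyReduced_of_isReduced _ _ hperf _ _ this
  obtain ⟨V₂, hV₂, hV₂'⟩ := Groth.Agent.S0434.result (f ≫ pullback.fst σ g) hgr
  have hη₂ : genericPoint S ∈ V₂ := ((genericPoint_spec S).mem_open_set_iff V₂.2).2 (by simpa using hV₂)
  refine ⟨V₁ ⊓ V₂, ⟨hV₁, hη₂⟩, fun p hp hpV s hs1 hs2 => ⟨?_, ?_⟩⟩
  · refine of_restrict @Flat f (pullback.fst σ g ⁻¹ᵁ V₁) (flat_restrict f _ fun x hx => hV₁' x hx) s (fun t => ?_)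
      (IsPullback.of_hasPullback f s)
    change pullback.fst σ g (s t) ∈ V₁
    rw [← Scheme.Hom.comp_apply, hs1, Scheme.Hom.comp_apply]
    exact (hpV _).1
  · have hpb : IsPullback (pullback.fst f s) (pullback.snd f s ≫ g) (f ≫ pullback.fst σ g) p :=
      (IsPullback.of_hasPullback f s).paste_vert (isPullback_slice σ g p hp s hs1 hs2)
    have h5 := of_restrict @GeometricallyReduced (f ≫ pullback.fst σ g) V₂ hV₂' p (fun t => (hpV t).2) hpb
    have h6 := h5.geometrically_isReduced
    exact h6 (𝟙 _) (𝟙 _) (pullback.snd f s ≫ g) IsPullback.of_id_fst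

end main

end K960.BrSlice
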