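import Groth.Agent.BranchVar.K960.BrPoly
import Groth.Agent.BranchVar.K960.BrSlice

/-!
# Generic hyperplane sections on a chart
-/

set_option autoImplicit false
universe u
open MvPolynomial CategoryTheory CategoryTheory.Limits AlgebraicGeometry
open Groth.Agent.VarietyB

namespace K960.BrHyp

open BrTrans BrPoly

theorem ringKrullDim_le_of_smooth_poly {k R : Type u} [Field k] [CommRing R] [IsNoetherianRing R] [Algebra k R] (n : ℕ)
    (hR : ringKrullDim R ≤ 1) :
    topologicalKrullDim (Spec (CommRingCat.of (MvPolynomial (Fin n) R))) ≤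
      topologicalKrullDim (Spec (CommRingCat.of (MvPolynomial (Fin n) k))) + 1 := by
  have h1 : topologicalKrullDim (Spec (CommRingCat.of (MvPolynomial (Fin n) R))) =
      ringKrullDim (MvPolynomial (Fin n) R) := PrimeSpectrum.topologicalKrullDim_eq_ringKrullDim _
  have h2 : topologicalKrullDim (Spec (CommRingCat.of (MvPolynomial (Fin n) k))) =
      ringKrullDim (MvPolynomial (Fin n) k) := PrimeSpectrum.topologicalKrullDim_eq_ringKrullDim _
  rw [h1, h2, MvPolynomial.ringKrullDim_of_isNoetherianRing, MvPolynomial.ringKrullDim_of_isNoetherianRing,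
    ringKrullDim_eq_zero_of_field, zero_add, add_comm]
  gcongr

theorem affine_good {k R B : Type u} [Field k] [CharZero k] [CommRing R] [IsDomain R] [CommRing B]
    [_root_.IsReduced B] [Algebra k R] [Algebra k B] [Algebra R B] [IsScalarTower k R B] [Algebra.Smooth k R]
    (hR : ringKrullDim R ≤ 1) [Algebra.FiniteType k B] {n : ℕ} (j : Fin (n + 1)) (a : Fin n → B)
    (hT : ∀ P ∈ minimalPrimes B, ∃ i, Transcendental R (Ideal.Quotient.mk P (a i))) :
    ∃ G : MvPolynomial (Fin (n + 1)) k, G ≠ 0 ∧ ∀ v : Fin (n + 1) → k, eval v G ≠ 0 →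
      _root_.IsReduced (B ⧸ Ideal.span {eqn j a v}) ∧ Module.Flat R (B ⧸ Ideal.span {eqn j a v}) := by
  let q : Spec (CommRingCat.of (MvPolynomial (Fin (n + 1)) R)) ⟶ Spec (CommRingCat.of (MvPolynomial (Fin (n + 1)) k)) :=
    Spec.map (CommRingCat.ofHom (MvPolynomial.map (algebraMap k R)))
  let f : Spec (CommRingCat.of (MvPolynomial (Fin n) B)) ⟶ Spec (CommRingCat.of (MvPolynomial (Fin (n + 1)) R)) :=
    Spec.map (CommRingCat.ofHom (psi R j a).toRingHom)
  have hfq : f ≫ q = Spec.map (CommRingCat.ofHom (psi k j a).toRingHom) := by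
    rw [← Spec.map_comp]
    congr 1
    apply CommRingCat.hom_ext
    apply MvPolynomial.ringHom_ext
    · intro r
      change psi R j a (MvPolynomial.map (algebraMap k R) (C r)) = psi k j a (C r)
      rw [map_C, psi_C, psi_C, ← IsScalarTower.algebraMap_apply]
    · intro i
      change psi R j a (MvPolynomial.map (algebraMap k R) (X i)) = psi k j a (X i)
      rw [map_X]
      refine Fin.succAboveCases j ?_ (fun l => ?_) i
      · rw [psi_self, psi_self]
      · rw [psi_succAbove, psi_succAbove]
  let _ : (Spec (CommRingCat.of (MvPolynomial (Fin (n + 1)) k))).Over (Spec (CommRingCat.of k)) :=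
    ⟨Spec.map (CommRingCat.ofHom (algebraMap k (MvPolynomial (Fin (n + 1)) k)))⟩
  let _ : (Spec (CommRingCat.of (MvPolynomial (Fin (n + 1)) R))).Over (Spec (CommRingCat.of k)) :=
    ⟨Spec.map (CommRingCat.ofHom (algebraMap k (MvPolynomial (Fin (n + 1)) R)))⟩
  have hsm : Smooth (Spec.map (CommRingCat.ofHom (algebraMap k (MvPolynomial (Fin (n + 1)) R)))) := by
    have h0 : Algebra.Smooth R (MvPolynomial (Fin (n + 1)) R) := {}
    have : Algebra.Smooth k (MvPolynomial (Fin (n + 1)) R) := Algebra.Smooth.comp k R _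
    rw [HasRingHomProperty.Spec_iff (P := @Smooth)]
    exact RingHom.smooth_algebraMap.2 this
  have hRN : IsNoetherianRing R := Algebra.FiniteType.isNoetherianRing k R
  have hBN : IsNoetherianRing B := Algebra.FiniteType.isNoetherianRing k B
  have i1 : LocallyOfFiniteType ((Spec (CommRingCat.of (MvPolynomial (Fin (n + 1)) k))) ↘ (Spec (CommRingCat.of k))) := by
    change LocallyOfFiniteType (Spec.map (CommRingCat.ofHom (algebraMap k (MvPolynomial (Fin (n + 1)) k))))
    rw [HasRingHomProperty.Spec_iff (P := @LocallyOfFiniteType)]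
    exact RingHom.finiteType_algebraMap.2 inferInstance
  have i2 : LocallyOfFiniteType ((Spec (CommRingCat.of (MvPolynomial (Fin (n + 1)) R))) ↘ (Spec (CommRingCat.of k))) :=
    inferInstanceAs (LocallyOfFiniteType (Spec.map (CommRingCat.ofHom (algebraMap k (MvPolynomial (Fin (n + 1)) R)))))
  have hqk : q ≫ ((Spec (CommRingCat.of (MvPolynomial (Fin (n + 1)) k))) ↘ (Spec (CommRingCat.of k))) =
      (Spec (CommRingCat.of (MvPolynomial (Fin (n + 1)) R))) ↘ (Spec (CommRingCat.of k)) := by
    refine (Spec.map_comp _ _).symm.trans ?_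
    change Spec.map _ = Spec.map _
    congr 1
    apply CommRingCat.hom_ext
    apply RingHom.ext
    intro r
    change MvPolynomial.map (algebraMap k R) (C r) = algebraMap k (MvPolynomial (Fin (n + 1)) R) r
    rw [map_C]
    rfl
  have hft : LocallyOfFiniteType f := by
    have : LocallyOfFiniteType (f ≫ Spec.map (CommRingCat.ofHom (algebraMap k (MvPolynomial (Fin (n + 1)) R)))) := by
      rw [← Spec.map_comp, HasRingHomProperty.Spec_iff (P := @LocallyOfFiniteType)]
      have h1 : (CommRingCat.ofHom (algebraMap k (MvPolynomial (Fin (n + 1)) R)) ≫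
          CommRingCat.ofHom (psi R j a).toRingHom).hom = algebraMap k (MvPolynomial (Fin n) B) := by
        apply RingHom.ext
        intro r
        change psi R j a (C (algebraMap k R r)) = C (algebraMap k B r)
        rw [psi_C, ← IsScalarTower.algebraMap_apply]
      rw [h1]
      exact RingHom.finiteType_algebraMap.2 inferInstance
    exact locallyOfFiniteType_of_comp f (Spec.map (CommRingCat.ofHom (algebraMap k (MvPolynomial (Fin (n + 1)) R))))
  have hlN : IsLocallyNoetherian (Spec (CommRingCat.of (MvPolynomial (Fin (n + 1)) R))) := inferInstance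
  have hfp : LocallyOfFinitePresentation f := inferInstance
  have hred : IsReduced (Spec (CommRingCat.of (MvPolynomial (Fin n) B))) := inferInstance
  have hint : IsIntegral (Spec (CommRingCat.of (MvPolynomial (Fin (n + 1)) R))) := inferInstance
  have hint' : IsIntegral (Spec (CommRingCat.of (MvPolynomial (Fin (n + 1)) k))) := inferInstance
  have hreg : ∀ z : Spec (CommRingCat.of (MvPolynomial (Fin (n + 1)) R)),
      IsRegularLocalRing ((Spec (CommRingCat.of (MvPolynomial (Fin (n + 1)) R))).presheaf.stalk z) := by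
    intro z
    exact Groth.Agent.VarietyA.RegSmoothSch.isRegularLocalRing_stalk_of_mem_smoothLocus
      (Spec.map (CommRingCat.ofHom (algebraMap k (MvPolynomial (Fin (n + 1)) R)))) z
      (by rw [Scheme.Hom.smoothLocus_eq_top]; trivial)
  obtain ⟨V₁, hV₁, hV₁'⟩ := BrFlat.exists_open_flat f q
    (fun z hz => BrDim.valuationRing_of_over_genericPoint k q hqk hreg (ringKrullDim_le_of_smooth_poly (n + 1) hR) z hz)
    (fun ξ hξ _ => by
      have hQ : ξ.asIdeal ∈ minimalPrimes (MvPolynomial (Fin n) B) := by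
        refine ⟨⟨ξ.isPrime, bot_le⟩, fun P hP hle => ?_⟩
        let y : PrimeSpectrum (MvPolynomial (Fin n) B) := ⟨P, hP.1⟩
        have h1 : y ⤳ ξ := (PrimeSpectrum.le_iff_specializes (x := y) (y := ξ)).1 hle
        have h2 : y = ξ := hξ y h1
        rw [← h2]
      obtain ⟨i0, hi0⟩ := hT _ (comap_C_mem ξ.asIdeal hQ)
      have h3 := comap_psi_eq_bot (A := R) j a ξ.asIdeal hQ i0 hi0
      rw [genericPoint_eq_bot_of_affine]
      exact PrimeSpectrum.ext h3)
  have hperf : PerfectField ((Spec (CommRingCat.of (MvPolynomial (Fin (n + 1)) k))).residueField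
      (genericPoint (Spec (CommRingCat.of (MvPolynomial (Fin (n + 1)) k))))) := by
    have : CharZero ((Spec (CommRingCat.of (MvPolynomial (Fin (n + 1)) k))).residueField
      (genericPoint (Spec (CommRingCat.of (MvPolynomial (Fin (n + 1)) k))))) :=
      charZero_of_injective_ringHom
        (f := (Spec.preimage ((Spec (CommRingCat.of (MvPolynomial (Fin (n + 1)) k))).fromSpecResidueField
          (genericPoint (Spec (CommRingCat.of (MvPolynomial (Fin (n + 1)) k)))) ≫
          Spec.map (CommRingCat.ofHom (algebraMap k (MvPolynomial (Fin (n + 1)) k))))).hom) (RingHom.injective _)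
    infer_instance
  have hgr : GeometricallyReduced ((f ≫ q).fiberToSpecResidueField
      (genericPoint (Spec (CommRingCat.of (MvPolynomial (Fin (n + 1)) k))))) := by
    have := Groth.Agent.Flat2E.GenericFibre.isReduced_genericFiber (f ≫ q)
    exact @Groth.Agent.Sga3C.GeomRedPerf.geometricallyReduced_of_isReduced _ _ hperf _ _ this
  have hftq : LocallyOfFiniteType (f ≫ q) := by
    have hq : LocallyOfFiniteType q := by
      rw [HasRingHomProperty.Spec_iff (P := @LocallyOfFiniteType)]
      have h1 : LocallyOfFiniteType (q ≫ ((Spec (CommRingCat.of (MvPolynomial (Fin (n + 1)) k))) ↘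
          (Spec (CommRingCat.of k)))) := by rw [hqk]; exact i2
      have h2 := locallyOfFiniteType_of_comp q ((Spec (CommRingCat.of (MvPolynomial (Fin (n + 1)) k))) ↘
          (Spec (CommRingCat.of k)))
      rwa [HasRingHomProperty.Spec_iff (P := @LocallyOfFiniteType)] at h2
    infer_instance
  obtain ⟨V₂, hV₂, hV₂'⟩ := Groth.Agent.S0434.result (f ≫ q) hgr
  have hη₂ : genericPoint (Spec (CommRingCat.of (MvPolynomial (Fin (n + 1)) k))) ∈ V₂ :=
    ((genericPoint_spec _).mem_open_set_iff V₂.2).2 (by simpa using hV₂)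
  obtain ⟨_, ⟨_, ⟨G, rfl⟩, rfl⟩, hG, hGV⟩ := PrimeSpectrum.isBasis_basic_opens.exists_subset_of_mem_open
    (show genericPoint (Spec (CommRingCat.of (MvPolynomial (Fin (n + 1)) k))) ∈ ((V₁ ⊓ V₂ : TopologicalSpace.Opens _) : Set _)
      from ⟨hV₁, hη₂⟩) (V₁ ⊓ V₂).2
  have hG0 : G ≠ 0 := by
    rintro rfl
    rw [PrimeSpectrum.basicOpen_zero] at hG
    exact hG
  refine ⟨G, hG0, fun v hv => ?_⟩
  let p : Spec (CommRingCat.of k) ⟶ Spec (CommRingCat.of (MvPolynomial (Fin (n + 1)) k)) :=
    Spec.map (CommRingCat.ofHom (eval v))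
  have hp : ∀ t, p t ∈ V₁ ⊓ V₂ := by
    intro t
    apply hGV
    change G ∉ Ideal.comap (eval v) t.asIdeal
    rw [Ideal.mem_comap]
    intro h1
    exact t.isPrime.ne_top (Ideal.eq_top_of_isUnit_mem _ h1 (isUnit_iff_ne_zero.2 hv))
  let v' : Fin (n + 1) → R := fun i => algebraMap k R (v i)
  have heq : eqn j a v = eqn j a v' := by
    simp only [eqn, v', ← IsScalarTower.algebraMap_apply]
  let s : Spec (CommRingCat.of R) ⟶ Spec (CommRingCat.of (MvPolynomial (Fin (n + 1)) R)) :=
    Spec.map (CommRingCat.ofHom (eval v'))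
  have hsq : s ≫ q = Spec.map (CommRingCat.ofHom (algebraMap k R)) ≫ p := by
    rw [← Spec.map_comp, ← Spec.map_comp]
    congr 1
    apply CommRingCat.hom_ext
    apply MvPolynomial.ringHom_ext
    · intro r
      change eval v' (MvPolynomial.map (algebraMap k R) (C r)) = algebraMap k R (eval v (C r))
      rw [map_C, eval_C, eval_C]
    · intro i
      change eval v' (MvPolynomial.map (algebraMap k R) (X i)) = algebraMap k R (eval v (X i))
      rw [map_X, eval_X, eval_X]
  constructor
  · have hpb := isPullback_SpecMap_of_isPushout _ _ _ _ (isPushout (A := k) j a v)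
    have hpb' : IsPullback (Spec.map (CommRingCat.ofHom (beta j a v)))
        (Spec.map (CommRingCat.ofHom (algebraMap k (B ⧸ Ideal.span {eqn j a v})))) (f ≫ q) p := by
      rw [hfq]; exact hpb
    have h5 := BrSlice.of_restrict @GeometricallyReduced (f ≫ q) V₂ hV₂' p (fun t => (hp t).2) hpb'
    have h6 := h5.geometrically_isReduced (𝟙 _) (𝟙 _)
      (Spec.map (CommRingCat.ofHom (algebraMap k (B ⧸ Ideal.span {eqn j a v})))) IsPullback.of_id_fst
    have h7 : IsReduced (Spec (CommRingCat.of (B ⧸ Ideal.span {eqn j a v}))) := h6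
    exact (affine_isReduced_iff _).1 h7
  · rw [heq]
    have hpb := isPullback_SpecMap_of_isPushout _ _ _ _ (isPushout (A := R) j a v')
    have h5 : Flat (Spec.map (CommRingCat.ofHom (algebraMap R (B ⧸ Ideal.span {eqn j a v'})))) := by
      refine BrSlice.of_restrict @Flat f (q ⁻¹ᵁ V₁) (BrSlice.flat_restrict f _ fun x hx => hV₁' x hx) s (fun t => ?_) hpb
      change q (s t) ∈ V₁
      rw [← Scheme.Hom.comp_apply, hsq, Scheme.Hom.comp_apply]
      exact (hp _).1
    rw [Flat.SpecMap_iff] at h5
    exact RingHom.flat_algebraMap_iff.1 h5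

end K960.BrHyp
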