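import Groth.Agent.BranchVar.K960.BrGlob
import Groth.Agent.S9382
import Groth.Agent.S2511
import Mathlib.AlgebraicGeometry.ZariskisMainTheorem

/-!
# Iterated hyperplane sections of a family over a curve
-/

set_option autoImplicit false
universe u
open CategoryTheory CategoryTheory.Limits AlgebraicGeometry TopologicalSpace Opposite
open Groth.Agent.VarietyB

namespace K960.BrIter

open K658 BrChart BrGlob

section sup

variable {P X : Scheme.{u}} (F : X ⟶ P) (A B : P.IdealSheafData)

/-- Pulling back the intersection of two closed subschemes in two steps. -/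
noncomputable def q : pullback (pullback.fst F A.subschemeι ≫ F) B.subschemeι ⟶ (A ⊔ B).subscheme :=
  (Groth.Agent.S9382.result P A B).lift
    (pullback.fst (pullback.fst F A.subschemeι ≫ F) B.subschemeι ≫ pullback.snd F A.subschemeι)
    (pullback.snd (pullback.fst F A.subschemeι ≫ F) B.subschemeι) (by
      have h1 := pullback.condition (f := pullback.fst F A.subschemeι ≫ F) (g := B.subschemeι)
      rw [← h1, Category.assoc, ← pullback.condition])

theorem isPullback_sup : IsPullback
    (pullback.fst (pullback.fst F A.subschemeι ≫ F) B.subschemeι ≫ pullback.fst F A.subschemeι) (q F A B)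
    F (A ⊔ B).subschemeι := by
  have hS := Groth.Agent.S9382.result P A B
  have h1 : q F A B ≫ Scheme.IdealSheafData.inclusion (le_sup_left : A ≤ A ⊔ B) =
      pullback.fst (pullback.fst F A.subschemeι ≫ F) B.subschemeι ≫ pullback.snd F A.subschemeι := hS.lift_fst _ _ _
  have h2 : q F A B ≫ Scheme.IdealSheafData.inclusion (le_sup_right : B ≤ A ⊔ B) =
      pullback.snd (pullback.fst F A.subschemeι ≫ F) B.subschemeι := hS.lift_snd _ _ _
  have hL : IsPullback (q F A B) (pullback.fst (pullback.fst F A.subschemeι ≫ F) B.subschemeι)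
      (Scheme.IdealSheafData.inclusion (le_sup_left : A ≤ A ⊔ B)) (pullback.snd F A.subschemeι) := by
    refine IsPullback.of_right ?_ h1 hS.flip
    rw [h2, ← pullback.condition]
    exact (IsPullback.of_hasPullback (pullback.fst F A.subschemeι ≫ F) B.subschemeι).flip
  have hR : IsPullback (pullback.fst F A.subschemeι) (pullback.snd F A.subschemeι) F A.subschemeι :=
    IsPullback.of_hasPullback _ _
  have h3 := hL.flip.paste_horiz hR
  rwa [Scheme.IdealSheafData.inclusion_subschemeι] at h3

end sup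

section good

variable {k : Type u} [Field k] {N : ℕ} {C : Scheme.{u}} {g : C ⟶ Spec (CommRingCat.of k)}

theorem good_of_iso {X X' : Scheme.{u}} (f : X ⟶ pullback (CohB1.ProjSpace.toSpec N k) g) (e : X' ⟶ X) [IsIso e] (m : ℕ)
    (hf : Good m f) : Good m (e ≫ f) := by
  obtain ⟨h1, h2, h3, h4⟩ := hf
  refine ⟨inferInstance, isReduced_of_isOpenImmersion e, by rw [Category.assoc]; infer_instance, fun Z hZ => ?_⟩
  obtain ⟨ζ, hζ, rfl⟩ := K260.Gen.exists_isMax_of_mem hZ
  have h5 : K260.Gen.IsMax (e ζ) := hζ.map (Flat.generalizingMap e)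
  rw [Groth.Agent.Pi1C.LefReduce.dim_closure_eq e ζ]
  exact h4 _ ((K260.Gen.isMax_iff _).1 h5)

theorem iterate [CharZero k] (hC : Curve.IsSmoothProperCurve k C g) (m : ℕ) :
    ∀ {X : Scheme.{u}} (f : X ⟶ pullback (CohB1.ProjSpace.toSpec N k) g), Good (m + 1) f →
      ∃ s : Fin m → (Coh.structureModule (CohB1.ProjSpace N k) ⟶ Twist.twistProjSpace N k 1),
        Good 1 (pullback.fst (f ≫ pullback.fst (CohB1.ProjSpace.toSpec N k) g)
          (⨆ i : Fin m, PicF2.zeroScheme (Twist.twistProjSpace N k 1) (s i)).subschemeι ≫ f) := by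
  induction m with
  | zero =>
    intro X f hf
    refine ⟨Fin.elim0, ?_⟩
    have h1 : (⨆ i : Fin 0, PicF2.zeroScheme (Twist.twistProjSpace N k 1) (Fin.elim0 i)) = ⊥ := iSup_of_empty _
    rw [h1]
    have h2 : IsIso (⊥ : (CohB1.ProjSpace N k).IdealSheafData).subschemeι := inferInstance
    exact good_of_iso f _ _ hf
  | succ m ih =>
    intro X f hf
    obtain ⟨v, -, hv⟩ := step f hC (m + 1) (by omega) hf
    obtain ⟨s, hs⟩ := ih _ hv
    refine ⟨Fin.cons (SecSmooth.secOf (ProjSec.lin v)) s, ?_⟩
    let A : (CohB1.ProjSpace N k).IdealSheafData := Hyp v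
    let B : (CohB1.ProjSpace N k).IdealSheafData := ⨆ i : Fin m, PicF2.zeroScheme (Twist.twistProjSpace N k 1) (s i)
    have h1 : (⨆ i : Fin (m + 1), PicF2.zeroScheme (Twist.twistProjSpace N k 1)
        ((Fin.cons (SecSmooth.secOf (ProjSec.lin v)) s :
          Fin (m + 1) → (Coh.structureModule (CohB1.ProjSpace N k) ⟶ Twist.twistProjSpace N k 1)) i)) = A ⊔ B := by
      refine le_antisymm (iSup_le fun i => ?_) (sup_le ?_ (iSup_le fun i => ?_))
      · refine Fin.cases ?_ (fun l => ?_) i
        · exact le_sup_left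
        · refine le_trans ?_ le_sup_right
          exact le_iSup (fun i : Fin m => PicF2.zeroScheme (Twist.twistProjSpace N k 1) (s i)) l
      · exact le_iSup (fun i : Fin (m + 1) => PicF2.zeroScheme (Twist.twistProjSpace N k 1)
          ((Fin.cons (SecSmooth.secOf (ProjSec.lin v)) s :
          Fin (m + 1) → (Coh.structureModule (CohB1.ProjSpace N k) ⟶ Twist.twistProjSpace N k 1)) i)) 0
      · exact le_iSup (fun i : Fin (m + 1) => PicF2.zeroScheme (Twist.twistProjSpace N k 1)
          ((Fin.cons (SecSmooth.secOf (ProjSec.lin v)) s :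
          Fin (m + 1) → (Coh.structureModule (CohB1.ProjSpace N k) ⟶ Twist.twistProjSpace N k 1)) i)) i.succ
    rw [h1]
    let F := f ≫ pullback.fst (CohB1.ProjSpace.toSpec N k) g
    have hpb := isPullback_sup F A B
    let j := pullback.fst F (Hyp v).subschemeι
    have hs' : Good 1 (pullback.fst ((j ≫ f) ≫ pullback.fst (CohB1.ProjSpace.toSpec N k) g) B.subschemeι ≫ j ≫ f) := hs
    rw [show (j ≫ f) ≫ pullback.fst (CohB1.ProjSpace.toSpec N k) g = j ≫ F from Category.assoc _ _ _] at hs'
    have h2 := good_of_iso _ hpb.isoPullback.inv 1 hs'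
    have h3 : hpb.isoPullback.inv ≫ pullback.fst (j ≫ F) B.subschemeι ≫ j ≫ f =
        pullback.fst F (A ⊔ B).subschemeι ≫ f := by
      rw [← Category.assoc, ← Category.assoc, Category.assoc hpb.isoPullback.inv]
      refine congrArg (fun t => t ≫ f) ?_
      exact hpb.isoPullback_inv_fst
    rw [h3] at h2
    exact h2

/-- A good family of relative dimension zero is finite. -/
theorem isFinite_of_good {X : Scheme.{u}} (hC : Curve.IsSmoothProperCurve k C g)
    (f : X ⟶ pullback (CohB1.ProjSpace.toSpec N k) g) (hf : Good 1 f) :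
    IsFinite (f ≫ pullback.snd (CohB1.ProjSpace.toSpec N k) g) := by
  obtain ⟨hg1, hg2, hg3, hg4⟩ := hC
  obtain ⟨hf1, hf2, hf3, hf4⟩ := hf
  have hpr : IsProper (CohB1.ProjSpace.toSpec N k) := Groth.Agent.VarietyB.ProjSpaceProper.isProper_toSpec N k
  let h : X ⟶ C := f ≫ pullback.snd (CohB1.ProjSpace.toSpec N k) g
  let _ : C.Over (Spec (CommRingCat.of k)) := ⟨g⟩
  have hlC : LocallyOfFiniteType (C ↘ (Spec (CommRingCat.of k))) := inferInstanceAs (LocallyOfFiniteType g)
  let _ : X.Over (Spec (CommRingCat.of k)) := ⟨h ≫ g⟩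
  have hlX : LocallyOfFiniteType (X ↘ (Spec (CommRingCat.of k))) :=
    inferInstanceAs (LocallyOfFiniteType (h ≫ g))
  have hdim : ∀ ξ : X, K260.Gen.IsMax ξ → DimSch.trd k X ξ = 1 := by
    intro ξ hξ
    have h1 := hf4 _ ((K260.Gen.isMax_iff ξ).1 hξ)
    rw [K426.DimKit.dim_closure k X ξ] at h1
    exact_mod_cast h1
  have hη : DimSch.trd k C (genericPoint C) = 1 := by
    have h1 := DimSch.topologicalKrullDim_eq_trd k (X := C)
    rw [hg4] at h1
    exact_mod_cast h1.symm
  have hle : ∀ y : X, DimSch.trd k X y ≤ 1 := by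
    intro y
    obtain ⟨ξ, hξ, hmax⟩ := K260.Gen.exists_isMax y
    by_cases hy : ξ = y
    · rw [← hy, hdim ξ hmax]
    · have h1 := K426.Cut.trd_lt k hξ hy
      rw [hdim ξ hmax] at h1
      omega
  have key : ∀ y z : X, y ⤳ z → h y = h z → y = z := by
    intro y z hyz hh
    by_contra hne
    have h1 := K426.Cut.trd_lt k hyz hne
    have h2 := hle y
    by_cases hc : h z = genericPoint C
    · have h3 := K426.DimKit.trd_map_le k h rfl z
      rw [hc, hη] at h3
      omega
    · obtain ⟨ξ, hξ, hmax⟩ := K260.Gen.exists_isMax y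
      have h4 : K260.Gen.IsMax (h ξ) := hmax.map (Flat.generalizingMap h)
      have h5 : h ξ = genericPoint C := (h4 _ (genericPoint_specializes _)).symm
      have h6 : ξ ≠ y := by
        rintro rfl
        exact hc (hh ▸ h5)
      have h7 := K426.Cut.trd_lt k hξ h6
      rw [hdim ξ hmax] at h7
      omega
  have hfin : ∀ c : C, (h ⁻¹' {c}).Finite := by
    intro c
    have hft : LocallyOfFiniteType h := inferInstance
    have hft' : LocallyOfFiniteType (h.fiberToSpecResidueField c) :=
      inferInstanceAs (LocallyOfFiniteType (pullback.snd h (C.fromSpecResidueField c)))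
    have hι : ∀ y : h.fiber c, h (h.fiberι c y) = c := by
      intro y
      have h1 : h.fiberι c y ∈ h ⁻¹' {c} := h.range_fiberι c ▸ ⟨y, rfl⟩
      exact h1
    have hlN : IsLocallyNoetherian (h.fiber c) :=
      LocallyOfFiniteType.isLocallyNoetherian (h.fiberToSpecResidueField c)
    have hN : IsNoetherian (h.fiber c) := {}
    have hall : ∀ y : h.fiber c, K260.Gen.IsMax y := by
      intro y z hzy
      have h1 : h.fiberι c z ⤳ h.fiberι c y := hzy.map (h.fiberι c).continuous
      have h2 := key _ _ h1 ((hι z).trans (hι y).symm)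
      exact (h.fiberι c).isEmbedding.injective h2
    have hf' : Finite (h.fiber c) := by
      rw [← Set.finite_univ_iff]
      refine (finite_isMax (h.fiber c)).subset fun y _ => hall y
    have hf'' : Finite (h ⁻¹' {c}) := Finite.of_equiv _ (h.fiberHomeo c).toEquiv
    exact Set.toFinite _
  have hqf : LocallyQuasiFinite h := LocallyQuasiFinite.of_finite_preimage_singleton h hfin
  have hp : IsProper h := inferInstance
  exact IsFinite.of_isProper_of_locallyQuasiFinite h

theorem good_of_fibres {X : Scheme.{u}} (hC : Curve.IsSmoothProperCurve k C g)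
    (f : X ⟶ pullback (CohB1.ProjSpace.toSpec N k) g) [IsFinite f]
    [Flat (f ≫ pullback.snd (CohB1.ProjSpace.toSpec N k) g)] (n : ℕ)
    (hred : ∀ c : C, AlgebraicGeometry.IsReduced ((f ≫ pullback.snd (CohB1.ProjSpace.toSpec N k) g).fiber c))
    (hdim : ∀ c : C, ∀ Z ∈ irreducibleComponents (↥((f ≫ pullback.snd (CohB1.ProjSpace.toSpec N k) g).fiber c) : Type u),
      topologicalKrullDim (↥Z : Type u) = (n : WithBot ℕ∞)) : Good (n + 1) f := by
  obtain ⟨hg1, hg2, hg3, hg4⟩ := hC
  have hpr : IsProper (CohB1.ProjSpace.toSpec N k) := Groth.Agent.VarietyB.ProjSpaceProper.isProper_toSpec N k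
  let h : X ⟶ C := f ≫ pullback.snd (CohB1.ProjSpace.toSpec N k) g
  let _ : C.Over (Spec (CommRingCat.of k)) := ⟨g⟩
  have hlC : LocallyOfFiniteType (C ↘ (Spec (CommRingCat.of k))) := inferInstanceAs (LocallyOfFiniteType g)
  let _ : X.Over (Spec (CommRingCat.of k)) := ⟨h ≫ g⟩
  have hlX : LocallyOfFiniteType (X ↘ (Spec (CommRingCat.of k))) :=
    inferInstanceAs (LocallyOfFiniteType (h ≫ g))
  have hlNX : IsLocallyNoetherian X := LocallyOfFiniteType.isLocallyNoetherian (X ↘ (Spec (CommRingCat.of k)))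
  have hlNC : IsLocallyNoetherian C := LocallyOfFiniteType.isLocallyNoetherian (C ↘ (Spec (CommRingCat.of k)))
  have hη : DimSch.trd k C (genericPoint C) = 1 := by
    have h1 := DimSch.topologicalKrullDim_eq_trd k (X := C)
    rw [hg4] at h1
    exact_mod_cast h1.symm
  have hflat : Flat h := inferInstanceAs (Flat (f ≫ pullback.snd (CohB1.ProjSpace.toSpec N k) g))
  refine ⟨inferInstance, ?_, inferInstance, fun Z hZ => ?_⟩
  · exact Groth.Agent.S2511.result h (fun x => inferInstance) hred
  · obtain ⟨ξ, hξ, rfl⟩ := K260.Gen.exists_isMax_of_mem hZ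
    have h1 := BrDim.trd_eq_add_of_isMax k h rfl n hdim ξ hξ
    rw [K426.DimKit.dim_closure k X ξ, h1, hη, add_comm]

end good

end K960.BrIter
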