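import Groth.Agent.BranchVar.K960.BrSlice
import Groth.Agent.S2511
import Groth.Agent.CohqA.ProjDim
import Groth.Agent.Sga5.ProjSmooth
import Groth.Prelude.Def_CohB1

/-!
# Slices by points of projective space
-/

set_option autoImplicit false
universe u

open CategoryTheory CategoryTheory.Limits AlgebraicGeometry TopologicalSpace
open Groth.Agent.VarietyB

namespace K960.BrPoint

variable {k : Type u} [Field k] [IsAlgClosed k]

/-- Nonempty opens of schemes of finite type over an algebraically closed field have rational points. -/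
theorem exists_point {S : Scheme.{u}} (σ : S ⟶ Spec (CommRingCat.of k)) [LocallyOfFiniteType σ] (V : S.Opens)
    (hV : (V : Set S).Nonempty) : ∃ p : Spec (CommRingCat.of k) ⟶ S, p ≫ σ = 𝟙 _ ∧ ∀ t, p t ∈ V := by
  have : JacobsonSpace S := LocallyOfFiniteType.jacobsonSpace σ
  obtain ⟨x, hxV, hx⟩ := nonempty_inter_closedPoints hV V.2.isLocallyClosed
  exact ⟨pointOfClosedPoint σ x hx, pointOfClosedPoint_comp σ x hx, fun t => by
    rw [pointOfClosedPoint_apply]; exact hxV⟩

end K960.BrPoint
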