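import Groth.Agent.BranchVar.K960.BrTrans
import Mathlib.AlgebraicGeometry.Pullbacks
import Mathlib.RingTheory.Ideal.MinimalPrime.Basic
import Mathlib.RingTheory.Polynomial.Basic

/-!
# The universal hyperplane section on a chart
-/

set_option autoImplicit false
universe u
open MvPolynomial CategoryTheory

namespace K960.BrPoly

open BrTrans

section minp

variable {A B : Type*} [CommRing A] [CommRing B] [Algebra A B] {n : ℕ}

/-- Minimal primes of polynomial rings are extended. -/
theorem ker_map_mk_eq {σ : Type*} (Q : Ideal (MvPolynomial σ B)) (hQ : Q ∈ minimalPrimes (MvPolynomial σ B)) :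
    RingHom.ker (MvPolynomial.map (σ := σ) (Ideal.Quotient.mk (Q.comap C))) = Q := by
  have hQp : Q.IsPrime := hQ.1.1
  have hPp : (Q.comap C).IsPrime := inferInstance
  have hle : RingHom.ker (MvPolynomial.map (σ := σ) (Ideal.Quotient.mk (Q.comap C))) ≤ Q := by
    intro f hf
    rw [MvPolynomial.ker_map, Ideal.mk_ker] at hf
    exact Ideal.map_le_iff_le_comap.2 le_rfl hf
  refine le_antisymm hle (hQ.2 ⟨?_, bot_le⟩ hle)
  exact RingHom.ker_isPrime _

/-- The contraction of a minimal prime of the polynomial ring is a minimal prime. -/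
theorem comap_C_mem {σ : Type*} (Q : Ideal (MvPolynomial σ B)) (hQ : Q ∈ minimalPrimes (MvPolynomial σ B)) :
    Q.comap (C : B →+* MvPolynomial σ B) ∈ minimalPrimes B := by
  have hQp : Q.IsPrime := hQ.1.1
  refine ⟨⟨inferInstance, bot_le⟩, fun P hP hle => ?_⟩
  have hPp : P.IsPrime := hP.1
  have h1 : RingHom.ker (MvPolynomial.map (σ := σ) (Ideal.Quotient.mk P)) ≤ Q := by
    intro f hf
    rw [MvPolynomial.ker_map, Ideal.mk_ker] at hf
    exact Ideal.map_le_iff_le_comap.2 hle hf
  have h2 := hQ.2 ⟨RingHom.ker_isPrime _, bot_le⟩ h1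
  intro b hb
  have h3 : (C b : MvPolynomial σ B) ∈ RingHom.ker (MvPolynomial.map (σ := σ) (Ideal.Quotient.mk P)) := h2 hb
  rw [RingHom.mem_ker, map_C] at h3
  rw [← Ideal.Quotient.eq_zero_iff_mem]
  exact (C_injective σ (B ⧸ P)) (by rw [h3, map_zero])

/-- The parametrisation of the universal hyperplane section. -/
noncomputable def psi (A : Type*) {B : Type*} [CommRing A] [CommRing B] [Algebra A B] (j : Fin (n + 1)) (a : Fin n → B) :
    MvPolynomial (Fin (n + 1)) A →ₐ[A] MvPolynomial (Fin n) B :=
  aeval (coords j a)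

theorem psi_self (j : Fin (n + 1)) (a : Fin n → B) : psi A j a (X j) = -∑ i, C (a i) * X i := by
  rw [psi, aeval_X, coords, Fin.insertNth_apply_same]

theorem psi_succAbove (j : Fin (n + 1)) (a : Fin n → B) (l : Fin n) : psi A j a (X (j.succAbove l)) = X l := by
  rw [psi, aeval_X, coords, Fin.insertNth_apply_succAbove]

theorem psi_C (j : Fin (n + 1)) (a : Fin n → B) (r : A) : psi A j a (C r) = C (algebraMap A B r) := by
  rw [psi, aeval_C]
  rfl

theorem comap_psi_eq_bot (j : Fin (n + 1)) (a : Fin n → B) (Q : Ideal (MvPolynomial (Fin n) B))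
    (hQ : Q ∈ minimalPrimes (MvPolynomial (Fin n) B)) (i0 : Fin n)
    (h : Transcendental A (Ideal.Quotient.mk (Q.comap C) (a i0))) :
    Q.comap (psi A j a) = ⊥ := by
  have hQp : Q.IsPrime := hQ.1.1
  have hPp : (Q.comap C).IsPrime := inferInstance
  have h1 := algebraicIndependent_coords (R := A) j (fun i => Ideal.Quotient.mk (Q.comap C) (a i)) i0 h
  have h2 : (MvPolynomial.map (σ := Fin n) (Ideal.Quotient.mk (Q.comap C))).comp (psi A j a).toRingHom =
      (aeval (R := A) (coords j (fun i => Ideal.Quotient.mk (Q.comap C) (a i)))).toRingHom := by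
    apply MvPolynomial.ringHom_ext
    · intro r
      change MvPolynomial.map _ (psi A j a (C r)) = aeval _ (C r)
      rw [psi_C, map_C, aeval_C]
      rfl
    · intro i
      change MvPolynomial.map _ (psi A j a (X i)) = aeval _ (X i)
      rw [aeval_X, coords]
      refine Fin.succAboveCases j ?_ (fun l => ?_) i
      · rw [psi_self, Fin.insertNth_apply_same, map_neg, map_sum]
        simp only [map_mul, map_C, map_X]
      · rw [psi_succAbove, Fin.insertNth_apply_succAbove, map_X]
  rw [eq_bot_iff]
  intro x hx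
  have h3 : (psi A j a) x ∈ RingHom.ker (MvPolynomial.map (σ := Fin n) (Ideal.Quotient.mk (Q.comap C))) := by
    rw [ker_map_mk_eq Q hQ]
    exact hx
  have h4 : (aeval (R := A) (coords j (fun i => Ideal.Quotient.mk (Q.comap C) (a i)))) x = 0 := by
    have h5 := congrArg (fun f : MvPolynomial (Fin (n + 1)) A →+* MvPolynomial (Fin n) (B ⧸ Q.comap C) => f x) h2
    exact h5.symm.trans h3
  exact (injective_iff_map_eq_zero _).1 h1 x h4

end minp

section push

variable {A B : Type u} [CommRing A] [CommRing B] [Algebra A B] {n : ℕ}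

/-- The equation of the hyperplane section with coefficients `u`. -/
def eqn (j : Fin (n + 1)) (a : Fin n → B) (v : Fin (n + 1) → A) : B :=
  algebraMap A B (v j) + ∑ l, a l * algebraMap A B (v (j.succAbove l))

/-- Specialization of the universal hyperplane section. -/
noncomputable def beta (j : Fin (n + 1)) (a : Fin n → B) (v : Fin (n + 1) → A) :
    MvPolynomial (Fin n) B →+* B ⧸ Ideal.span {eqn j a v} :=
  (Ideal.Quotient.mk _).comp (eval fun l => algebraMap A B (v (j.succAbove l)))

theorem beta_C (j : Fin (n + 1)) (a : Fin n → B) (v : Fin (n + 1) → A) (b : B) :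
    beta j a v (C b) = Ideal.Quotient.mk _ b := by
  rw [beta, RingHom.comp_apply, eval_C]

theorem beta_X (j : Fin (n + 1)) (a : Fin n → B) (v : Fin (n + 1) → A) (l : Fin n) :
    beta j a v (X l) = Ideal.Quotient.mk _ (algebraMap A B (v (j.succAbove l))) := by
  rw [beta, RingHom.comp_apply, eval_X]

theorem comm (j : Fin (n + 1)) (a : Fin n → B) (v : Fin (n + 1) → A) :
    (beta j a v).comp (psi A j a).toRingHom =
      (algebraMap A (B ⧸ Ideal.span {eqn j a v})).comp (eval v) := by
  apply MvPolynomial.ringHom_ext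
  · intro r
    change beta j a v (psi A j a (C r)) = algebraMap A (B ⧸ Ideal.span {eqn j a v}) (eval v (C r))
    rw [psi_C, beta_C, eval_C]
    rfl
  · intro i
    change beta j a v (psi A j a (X i)) = algebraMap A (B ⧸ Ideal.span {eqn j a v}) (eval v (X i))
    rw [eval_X]
    refine Fin.succAboveCases j ?_ (fun l => ?_) i
    · rw [psi_self, map_neg, map_sum]
      have h1 : ∀ l, beta j a v (C (a l) * X l) =
          Ideal.Quotient.mk (Ideal.span {eqn j a v}) (a l * algebraMap A B (v (j.succAbove l))) := by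
        intro l
        rw [map_mul, beta_C, beta_X, map_mul]
      rw [Finset.sum_congr rfl fun l _ => h1 l, ← map_sum, neg_eq_iff_eq_neg, eq_comm, neg_eq_iff_add_eq_zero]
      change Ideal.Quotient.mk _ (algebraMap A B (v j)) + _ = 0
      rw [← map_add, Ideal.Quotient.eq_zero_iff_mem]
      exact Ideal.subset_span rfl
    · rw [psi_succAbove, beta_X]
      rfl

section lift

variable {T : Type*} [CommRing T] (j : Fin (n + 1)) (a : Fin n → B) (v : Fin (n + 1) → A)
  (α : MvPolynomial (Fin n) B →+* T) (β : A →+* T) (hc : ∀ x, α (psi A j a x) = β (eval v x))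

include hc

theorem lift_C (r : A) : α (C (algebraMap A B r)) = β r := by
  rw [← psi_C j a r, hc, eval_C]

theorem lift_X (l : Fin n) : α (X l) = β (v (j.succAbove l)) := by
  rw [← psi_succAbove (A := A) j a l, hc, eval_X]

theorem lift_zero (x : B) (hx : x ∈ Ideal.span {eqn j a v}) : (α.comp C) x = 0 := by
  have h1 : α (C (eqn j a v)) = 0 := by
    have h3 : α (-∑ i, C (a i) * X i : MvPolynomial (Fin n) B) = β (v j) := by
      rw [← psi_self (A := A) j a, hc, eval_X]
    rw [eqn, map_add, map_add, lift_C j a v α β hc, ← h3, map_neg, map_sum, map_sum, map_sum, neg_add_eq_zero]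
    refine Finset.sum_congr rfl fun l _ => ?_
    rw [map_mul, map_mul, map_mul, lift_C j a v α β hc, lift_X j a v α β hc]
  rw [Ideal.mem_span_singleton] at hx
  obtain ⟨y, rfl⟩ := hx
  change α (C (eqn j a v * y)) = 0
  rw [map_mul, map_mul, h1, zero_mul]

/-- The universal map. -/
noncomputable def desc : B ⧸ Ideal.span {eqn j a v} →+* T :=
  Ideal.Quotient.lift _ (α.comp C) (lift_zero j a v α β hc)

theorem desc_mk (b : B) : desc j a v α β hc (Ideal.Quotient.mk _ b) = α (C b) := rfl

end lift

/-- The hyperplane section is the fibre of the universal one. -/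
theorem isPushout (j : Fin (n + 1)) (a : Fin n → B) (v : Fin (n + 1) → A) :
    IsPushout (CommRingCat.ofHom (psi A j a).toRingHom) (CommRingCat.ofHom (eval v))
      (CommRingCat.ofHom (beta j a v)) (CommRingCat.ofHom (algebraMap A (B ⧸ Ideal.span {eqn j a v}))) := by
  have hc : ∀ s : Limits.PushoutCocone (CommRingCat.ofHom (psi A j a).toRingHom) (CommRingCat.ofHom (eval v)),
      ∀ x, s.inl.hom (psi A j a x) = s.inr.hom (eval v x) := fun s x =>
    congrArg (fun f : CommRingCat.of (MvPolynomial (Fin (n + 1)) A) ⟶ s.pt => f.hom x) s.condition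
  refine ⟨⟨?_⟩, ⟨Limits.PushoutCocone.IsColimit.mk _
    (fun s => CommRingCat.ofHom (desc j a v s.inl.hom s.inr.hom (hc s))) ?_ ?_ ?_⟩⟩
  · ext : 1
    exact comm j a v
  · intro s
    apply CommRingCat.hom_ext
    apply MvPolynomial.ringHom_ext
    · intro b
      change desc j a v s.inl.hom s.inr.hom (hc s) (beta j a v (C b)) = s.inl.hom (C b)
      rw [beta_C]
      rfl
    · intro l
      change desc j a v s.inl.hom s.inr.hom (hc s) (beta j a v (X l)) = s.inl.hom (X l)
      rw [beta_X, lift_X j a v _ _ (hc s)]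
      exact lift_C j a v _ _ (hc s) _
  · intro s
    apply CommRingCat.hom_ext
    apply RingHom.ext
    intro r
    exact lift_C j a v _ _ (hc s) r
  · intro s m hm1 hm2
    apply CommRingCat.hom_ext
    apply Ideal.Quotient.ringHom_ext
    apply RingHom.ext
    intro b
    have h := congrArg (fun f : CommRingCat.of (MvPolynomial (Fin n) B) ⟶ s.pt => f.hom (C b)) hm1
    have h' : m.hom (beta j a v (C b)) = s.inl.hom (C b) := h
    rw [beta_C] at h'
    exact h'

end push

end K960.BrPoly
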