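import Mathlib.RingTheory.AlgebraicIndependent.Transcendental
import Mathlib.RingTheory.Algebraic.Integral
import Mathlib.Data.Fin.Tuple.Basic
import Mathlib.Algebra.BigOperators.Fin

/-!
# Transcendence of generic linear combinations
-/

set_option autoImplicit false
open MvPolynomial

namespace K960.BrTrans

variable {R D : Type*} [CommRing R] [CommRing D] [IsDomain D] [Algebra R D] {n : ℕ}

/-- The shift of one variable. -/
noncomputable def shift (i0 : Fin n) (c : ℤ) : MvPolynomial (Fin n) D →ₐ[D] MvPolynomial (Fin n) D :=
  aeval fun i => if i = i0 then X i + C (c : D) else X i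

omit [IsDomain D] in
theorem shift_shift (i0 : Fin n) (x : MvPolynomial (Fin n) D) : shift i0 (-1) (shift i0 1 x) = x := by
  have h : (shift (D := D) i0 (-1)).comp (shift i0 1) = AlgHom.id D _ := by
    apply MvPolynomial.algHom_ext
    intro i
    rw [AlgHom.comp_apply, AlgHom.id_apply]
    unfold shift
    rw [aeval_X]
    split_ifs with hi
    · subst hi
      rw [map_add, aeval_X, if_pos rfl, aeval_C]
      simp
    · rw [aeval_X, if_neg hi]
  exact congrArg (fun f : MvPolynomial (Fin n) D →ₐ[D] MvPolynomial (Fin n) D => f x) h

omit [IsDomain D] in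
theorem shift_injective (i0 : Fin n) : Function.Injective (shift (D := D) i0 1) :=
  Function.LeftInverse.injective (shift_shift i0)

variable (R) in
omit [IsDomain D] in
theorem shift_mem (i0 : Fin n) {x : MvPolynomial (Fin n) D}
    (hx : x ∈ Algebra.adjoin R (Set.range (X : Fin n → MvPolynomial (Fin n) D))) :
    shift i0 1 x ∈ Algebra.adjoin R (Set.range (X : Fin n → MvPolynomial (Fin n) D)) := by
  have h : Algebra.adjoin R (Set.range (X : Fin n → MvPolynomial (Fin n) D)) ≤
      (Algebra.adjoin R (Set.range (X : Fin n → MvPolynomial (Fin n) D))).comap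
        ((shift (D := D) i0 1).restrictScalars R) := by
    apply Algebra.adjoin_le
    rintro _ ⟨i, rfl⟩
    change shift i0 1 (X i) ∈ Algebra.adjoin R (Set.range (X : Fin n → MvPolynomial (Fin n) D))
    unfold shift
    rw [aeval_X]
    split_ifs with hi
    · refine add_mem (Algebra.subset_adjoin ⟨i, rfl⟩) ?_
      simp only [Int.cast_one, map_one]
      exact one_mem _
    · exact Algebra.subset_adjoin ⟨i, rfl⟩
  exact h hx

/-- A generic linear combination of elements one of which is transcendental is transcendental over the ring generated by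
the coefficients. -/
theorem transcendental_sum (a : Fin n → D) (i0 : Fin n) (h : Transcendental R (a i0)) :
    Transcendental (Algebra.adjoin R (Set.range (X : Fin n → MvPolynomial (Fin n) D)))
      (∑ i, C (a i) * X i : MvPolynomial (Fin n) D) := by
  intro halg
  have h1 : IsAlgebraic (Algebra.adjoin R (Set.range (X : Fin n → MvPolynomial (Fin n) D)))
      (shift i0 1 (∑ i, C (a i) * X i : MvPolynomial (Fin n) D)) := by
    let f : Algebra.adjoin R (Set.range (X : Fin n → MvPolynomial (Fin n) D)) →+*
        Algebra.adjoin R (Set.range (X : Fin n → MvPolynomial (Fin n) D)) :=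
      ((shift (D := D) i0 1).toRingHom.comp (Algebra.adjoin R (Set.range (X : Fin n → MvPolynomial (Fin n) D))).val.toRingHom).codRestrict
        (Algebra.adjoin R (Set.range (X : Fin n → MvPolynomial (Fin n) D))) fun x => shift_mem R i0 x.2
    refine halg.ringHom_of_comp_eq f (shift (D := D) i0 1).toRingHom ?_ ?_
    · intro x y hxy
      have h2 : shift i0 1 (x : MvPolynomial (Fin n) D) = shift i0 1 (y : MvPolynomial (Fin n) D) :=
        congrArg Subtype.val hxy
      exact Subtype.ext (shift_injective i0 h2)
    · rfl
  have h2 : shift i0 1 (∑ i, C (a i) * X i : MvPolynomial (Fin n) D) = (∑ i, C (a i) * X i) + C (a i0) := by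
    rw [map_sum]
    have h3 : ∀ i, shift i0 1 (C (a i) * X i : MvPolynomial (Fin n) D) = C (a i) * X i + if i = i0 then C (a i0) else 0 := by
      intro i
      rw [map_mul]
      unfold shift
      rw [aeval_X, aeval_C, MvPolynomial.algebraMap_eq]
      split_ifs with hi
      · subst hi
        simp only [Int.cast_one, map_one]
        ring
      · rw [add_zero]
    rw [Finset.sum_congr rfl fun i _ => h3 i, Finset.sum_add_distrib, Finset.sum_ite_eq' Finset.univ i0]
    simp
  have h4 : IsAlgebraic (Algebra.adjoin R (Set.range (X : Fin n → MvPolynomial (Fin n) D)))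
      (C (a i0) : MvPolynomial (Fin n) D) := by
    have h5 := h1.sub halg
    rw [h2, add_sub_cancel_left] at h5
    exact h5
  have h6 : AlgebraicIndependent R (fun _ : Unit => a i0) := by
    rw [algebraicIndependent_unique_type_iff]
    exact h
  have h7 : AlgebraicIndependent D (X : Fin n → MvPolynomial (Fin n) D) := MvPolynomial.algebraicIndependent_X _ _
  have h8 := h6.sumElim_comp h7
  have h9 : AlgebraicIndependent R
      (Sum.elim (algebraMap D (MvPolynomial (Fin n) D) ∘ fun _ : Unit => a i0) (X : Fin n → MvPolynomial (Fin n) D)) := by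
    have := h8.comp (Sum.swap) (Sum.swap_leftInverse.injective)
    convert! this using 1
    ext (_ | _) <;> rfl
  have h10 := (AlgebraicIndependent.sumElim_iff.1 h9).2
  rw [algebraicIndependent_unique_type_iff] at h10
  exact h10 h4

/-- The coordinates of the generic hyperplane through a point. -/
noncomputable def coords (j : Fin (n + 1)) (a : Fin n → D) : Fin (n + 1) → MvPolynomial (Fin n) D :=
  Fin.insertNth j (-∑ i, C (a i) * X i) X

theorem algebraicIndependent_coords (j : Fin (n + 1)) (a : Fin n → D) (i0 : Fin n) (h : Transcendental R (a i0)) :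
    AlgebraicIndependent R (coords j a) := by
  have h0 : AlgebraicIndependent R (X : Fin n → MvPolynomial (Fin n) D) := by
    have h6 : AlgebraicIndependent R (fun _ : Unit => a i0) := by
      rw [algebraicIndependent_unique_type_iff]
      exact h
    have h7 : AlgebraicIndependent D (X : Fin n → MvPolynomial (Fin n) D) := MvPolynomial.algebraicIndependent_X _ _
    have h8 := h6.sumElim_comp h7
    exact h8.comp Sum.inl Sum.inl_injective
  have h1 : Transcendental (Algebra.adjoin R (Set.range (X : Fin n → MvPolynomial (Fin n) D)))
      (-∑ i, C (a i) * X i : MvPolynomial (Fin n) D) := by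
    intro h2
    exact transcendental_sum a i0 h (by simpa using h2.neg)
  have h2 := (h0.option_iff_transcendental _).2 h1
  have h3 := h2.comp (finSuccEquiv' j) (finSuccEquiv' j).injective
  convert! h3 using 1
  ext i : 1
  unfold coords
  refine Fin.succAboveCases j ?_ (fun l => ?_) i
  · rw [Fin.insertNth_apply_same, Function.comp_apply, finSuccEquiv'_at]
    rfl
  · rw [Fin.insertNth_apply_succAbove, Function.comp_apply, finSuccEquiv'_succAbove]
    rfl

end K960.BrTrans
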