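import Mathlib.RingTheory.Localization.NormTrace
import Mathlib.RingTheory.LocalProperties.Reduced
import Mathlib.LinearAlgebra.Trace
import Mathlib.RingTheory.Artinian.Module

/-!
# The trace form of a reduced finite free algebra in characteristic zero is nondegenerate
-/

set_option autoImplicit false

namespace K960.TrForm

/-- Reduced Artinian rings are von Neumann regular. -/
theorem exists_regular {R : Type*} [CommRing R] [IsArtinianRing R] [IsReduced R] (x : R) : ∃ y, x * (x * y) = x := by
  obtain ⟨n, y, hy⟩ := IsArtinian.exists_pow_succ_smul_dvd x (1 : R)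
  refine ⟨y, ?_⟩
  have h1 : x ^ n * (1 - x * y) = 0 := by
    rw [smul_eq_mul, smul_eq_mul, Nat.succ_eq_add_one, pow_succ] at hy
    linear_combination -hy
  have h2 : IsNilpotent (x * (1 - x * y)) := ⟨n + 1, by
    rw [mul_pow, pow_succ x, pow_succ (1 - x * y)]
    linear_combination (x * (1 - x * y) ^ n) * h1⟩
  have h3 := h2.eq_zero
  linear_combination -h3

theorem exists_trace_ne_zero_field {K B : Type*} [Field K] [CharZero K] [CommRing B] [Algebra K B] [Module.Finite K B]
    [IsReduced B] (x : B) (hx : x ≠ 0) : ∃ y, Algebra.trace K B (x * y) ≠ 0 := by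
  have : IsArtinianRing B := IsArtinianRing.of_finite K B
  obtain ⟨y, hy⟩ := exists_regular x
  refine ⟨y, ?_⟩
  have he : IsIdempotentElem (x * y) := by
    change x * y * (x * y) = x * y
    linear_combination y * hy
  have he0 : x * y ≠ 0 := by
    intro h0
    rw [h0, mul_zero] at hy
    exact hx hy.symm
  have he' : IsIdempotentElem (Algebra.lmul K B (x * y)) := by
    change Algebra.lmul K B (x * y) * Algebra.lmul K B (x * y) = _
    rw [← map_mul, he]
  rw [Algebra.trace_apply, Ne, LinearMap.IsIdempotentElem.trace_eq_zero_iff he']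
  intro h0
  apply he0
  have h1 := congrArg (fun f : B →ₗ[K] B => f 1) h0
  simpa using h1

theorem exists_trace_ne_zero {A B : Type*} [CommRing A] [IsDomain A] [CharZero A] [CommRing B] [Algebra A B]
    [Module.Finite A B] [Module.Free A B] [IsReduced B] (x : B) (hx : x ≠ 0) : ∃ y, Algebra.trace A B (x * y) ≠ 0 := by
  let K := FractionRing A
  let M := Algebra.algebraMapSubmonoid B (nonZeroDivisors A)
  let BK := Localization M
  have hK : CharZero K := charZero_of_injective_algebraMap (IsFractionRing.injective A K)
  have hred : IsReduced BK := isReduced_localizationPreserves M BK inferInstance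
  let _ : Algebra K BK := localizationAlgebra (nonZeroDivisors A) B
  have hT : IsScalarTower A K BK := IsScalarTower.of_algebraMap_eq' (IsLocalization.map_comp _).symm
  have hfin : Module.Finite K BK := Module.Finite.of_basis
    ((Module.Free.chooseBasis A B).localizationLocalization K (nonZeroDivisors A) BK)
  have hinj : algebraMap B BK x ≠ 0 := by
    intro h0
    rw [IsLocalization.map_eq_zero_iff M BK] at h0
    obtain ⟨⟨_, a, ha, rfl⟩, h1⟩ := h0
    apply hx
    have h2 : a • x = 0 := by rw [Algebra.smul_def]; exact h1
    exact (smul_eq_zero.1 h2).resolve_left (nonZeroDivisors.ne_zero ha)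
  obtain ⟨z, hz⟩ := exists_trace_ne_zero_field (K := K) (algebraMap B BK x) hinj
  obtain ⟨⟨b, ⟨_, a, ha, rfl⟩⟩, hb⟩ := IsLocalization.surj M z
  refine ⟨b, fun h0 => hz ?_⟩
  have h1 := Algebra.trace_localization A (S := B) (nonZeroDivisors A) (Rₘ := K) (Sₘ := BK) (x * b)
  rw [h0, map_zero, map_mul, ← hb] at h1
  have h2 : algebraMap B BK x * (z * algebraMap B BK (algebraMap A B a)) =
      algebraMap A K a • (algebraMap B BK x * z) := by
    rw [Algebra.smul_def, ← IsScalarTower.algebraMap_apply A K BK, ← IsScalarTower.algebraMap_apply A B BK]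
    ring
  rw [h2, map_smul, smul_eq_zero] at h1
  refine h1.resolve_left ?_
  intro h3
  rw [map_eq_zero_iff _ (IsFractionRing.injective A K)] at h3
  exact nonZeroDivisors.ne_zero ha h3

end K960.TrForm
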