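import Groth.Agent.BranchVar.K960.TrForm
import Groth.Agent.FinCov.K993.Trace
import Groth.Agent.Dcoh.MonClosed

/-!
# The trace pairing of a finite locally free algebra, as a map to the dual
-/

set_option autoImplicit false
universe u

open CategoryTheory CategoryTheory.Limits AlgebraicGeometry Opposite TopologicalSpace
open Groth.Agent.Fdesc.LocGen Groth.Agent.Ega2.BasSec K993.QAlg K993.Trace
open Groth.Agent.Dcoh.MonClosed Groth.Agent.CohqB.HomSheaf Groth.Agent.Dcoh.MonTm

namespace K960.TrPair

variable {X : Scheme.{u}} {A : RelSpec.QCAlg X}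

theorem mono_of_app_injective {M N : X.Modules} (φ : M ⟶ N)
    (h : ∀ U, Function.Injective (φ.app U)) : Mono φ := by
  have h1 : ∀ U, Mono (((Scheme.Modules.toPresheaf X).map φ).app U) := fun U =>
    (AddCommGrpCat.mono_iff_injective _).mpr (h U.unop)
  have : Mono ((Scheme.Modules.toPresheaf X).map φ) := NatTrans.mono_of_mono_app _
  exact (Scheme.Modules.toPresheaf X).mono_of_mono_map this

/-- The trace pairing on sections. -/
noncomputable def pair (hA : FlatMod.IsFinLocFree A.toModule) (U : X.Opens) :
    Γ(A.toModule, U) →ₗ[Γ(X, U)] Γ(A.toModule, U) →ₗ[Γ(X, U)] Γ(Coh.structureModule X, U) :=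
  LinearMap.mk₂ Γ(X, U)
    (fun l l' => (trHom hA).app U (toG A U ((toG A U).symm l * (toG A U).symm l')))
    (fun a b c => by rw [map_add, add_mul, map_add, map_add])
    (fun r a b => by rw [map_smul, smul_mul_assoc, map_smul, Scheme.Modules.Hom.app_smul])
    (fun a b c => by rw [map_add, mul_add, map_add, map_add])
    (fun r a b => by rw [map_smul, mul_smul_comm, map_smul, Scheme.Modules.Hom.app_smul])

theorem pair_apply (hA : FlatMod.IsFinLocFree A.toModule) (U : X.Opens) (l l' : Γ(A.toModule, U)) :
    pair hA U l l' = (trHom hA).app U (toG A U ((toG A U).symm l * (toG A U).symm l')) := rfl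

theorem pair_res (hA : FlatMod.IsFinLocFree A.toModule) (U V : X.Opens) (i : V ⟶ U) (l l' : Γ(A.toModule, U)) :
    (Coh.structureModule X).presheaf.map i.op (pair hA U l l') =
      pair hA V (A.toModule.presheaf.map i.op l) (A.toModule.presheaf.map i.op l') := by
  change res (Coh.structureModule X) i.le _ = pair hA V (res _ i.le l) (res _ i.le l')
  rw [pair_apply, pair_apply]
  have h1 : (toG A V).symm (res A.toModule i.le l) * (toG A V).symm (res A.toModule i.le l') =
      resA A i.le ((toG A U).symm l * (toG A U).symm l') := by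
    rw [map_mul]
    rfl
  rw [h1, toG_resA, app_res]

/-- The map to the dual given by the trace pairing. -/
noncomputable def phi (hA : FlatMod.IsFinLocFree A.toModule) :
    A.toModule ⟶ homSheaf A.toModule (Coh.structureModule X) :=
  curry (Groth.Agent.Ega2.Tens.lift (pair hA) (pair_res hA))

theorem comp_phi (hA : FlatMod.IsFinLocFree A.toModule) (U : X.Opens) (n : Γ(A.toModule, U)) (V : X.Opens) (hV : V ≤ U)
    (m : Γ(A.toModule, V)) : comp ((phi hA).app U n) V hV m = pair hA V m (res A.toModule hV n) := by
  rw [phi, comp_curry]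
  exact Groth.Agent.Ega2.Tens.lift_tmul (pair hA) (pair_res hA) V m (res A.toModule hV n)

/-- Over a reduced algebra in characteristic zero the trace pairing is nondegenerate. -/
theorem mono_phi [IsIntegral X] (hA : FlatMod.IsFinLocFree A.toModule)
    (hchar : ∀ V : X.Opens, (V : Set X).Nonempty → CharZero Γ(X, V))
    (hred : ∀ V : X.Opens, IsAffineOpen V → _root_.IsReduced (S A V)) : Mono (phi hA) := by
  apply mono_of_app_injective
  intro U
  rw [injective_iff_map_eq_zero]
  intro n hn
  let I := {V : X.Opens // V ≤ U ∧ (V : Set X).Nonempty ∧ IsAffineOpen V ∧ HasBas A V}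
  refine res_ext A.toModule (fun i : I => i.1) (fun i => i.2.1) ?_ (fun i => ?_)
  · intro x hx
    obtain ⟨W, hxW, hW⟩ := exists_hasBas hA x
    obtain ⟨V, hV, hxV, hVW⟩ := exists_isAffineOpen_mem_and_subset (X := X) (U := W ⊓ U) (x := x) ⟨hxW, hx⟩
    exact Opens.mem_iSup.mpr ⟨⟨V, hVW.trans inf_le_right, ⟨x, hxV⟩, hV, hW.mono (hVW.trans inf_le_left)⟩, hxV⟩
  · obtain ⟨V, hVU, hne, hV, hb⟩ := i
    obtain ⟨hfree, hfin⟩ := hb.free
    have : Nonempty V := hne.to_subtype
    have hc := hchar V hne
    have hr := hred V hV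
    have hdom : IsDomain Γ(X, V) := inferInstance
    rw [map_zero]
    change res A.toModule hVU n = 0
    by_contra h0
    obtain ⟨y, hy⟩ := TrForm.exists_trace_ne_zero (A := Γ(X, V)) (B := S A V) ((toG A V).symm (res A.toModule hVU n))
      (by
        intro h1
        apply h0
        rw [← (toG A V).apply_symm_apply (res A.toModule hVU n), h1, map_zero])
    apply hy
    have h2 := comp_phi hA U n V hVU (toG A V y)
    rw [hn, pair_apply, LinearEquiv.symm_apply_apply, trHom_app] at h2
    have h3 : (0 : Γ(Coh.structureModule X, V)) = ofFun (tr hA V (y * (toG A V).symm (res A.toModule hVU n))) := h2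
    have h4 : tr hA V (y * (toG A V).symm (res A.toModule hVU n)) = 0 := by
      apply (ofFun (X := X) (U := V)).injective
      rw [← h3, map_zero]
    have h5 := isTr_tr hA (y * (toG A V).symm (res A.toModule hVU n)) V le_rfl hb
    rw [ores_refl, resA_refl, h4] at h5
    rw [mul_comm]
    exact h5.symm

end K960.TrPair
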