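import Mathlib.AlgebraicGeometry.Fiber
import Mathlib.AlgebraicGeometry.FunctionField
import Mathlib.AlgebraicGeometry.Morphisms.Flat
import Mathlib.AlgebraicGeometry.Properties
import Mathlib.RingTheory.Flat.Basic

/-!
# A flat family with reduced generic fibre is reduced
-/

set_option autoImplicit false
universe u
open CategoryTheory CategoryTheory.Limits AlgebraicGeometry TopologicalSpace Opposite TensorProduct

namespace K960.TrRed

variable {Y C : Scheme.{u}} (g : Y ⟶ C)

/-- The ring map to the residue field of a point of an affine open. -/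
noncomputable def toRes {V : C.Opens} (c : C) (hc : c ∈ V) : Γ(C, V) ⟶ C.residueField c :=
  C.presheaf.germ V c hc ≫ C.residue c

theorem map_toRes {V : C.Opens} (hV : IsAffineOpen V) (c : C) (hc : c ∈ V) :
    Spec.map (toRes c hc) ≫ hV.fromSpec = C.fromSpecResidueField c := by
  rw [toRes, Spec.map_comp, Category.assoc, Scheme.fromSpecResidueField, ← hV.fromSpecStalk_eq_fromSpecStalk hc]
  rfl

theorem toRes_injective [IsIntegral C] {V : C.Opens} (hc : genericPoint C ∈ V) :
    Function.Injective (toRes (V := V) (genericPoint C) hc) := by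
  have h1 : Function.Injective (C.presheaf.germ V (genericPoint C) hc) := by
    have : Nonempty V := ⟨⟨_, hc⟩⟩
    exact germ_injective_of_isIntegral C (genericPoint C) hc
  have hf : IsField (C.presheaf.stalk (genericPoint C)) := Field.toIsField C.functionField
  have h2 : Function.Injective (C.residue (genericPoint C)) := by
    let _ := hf.toField
    exact RingHom.injective (C.residue (genericPoint C)).hom
  exact h2.comp h1

theorem isPullback_fromSpec [IsAffineHom g] {V : C.Opens} (hV : IsAffineOpen V) :
    IsPullback (hV.preimage g).fromSpec (Spec.map (g.app V)) g hV.fromSpec := by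
  refine (IsOpenImmersion.isPullback _ _ _ _ ?_ ?_).flip
  · rw [Scheme.Hom.app_eq_appLE]
    exact (hV.SpecMap_appLE_fromSpec g (hV.preimage g) le_rfl).symm
  · rw [IsAffineOpen.opensRange_fromSpec, IsAffineOpen.opensRange_fromSpec]

theorem isReduced_sections [IsAffineHom g] [Flat g] [IsIntegral C]
    (hred : AlgebraicGeometry.IsReduced (g.fiber (genericPoint C))) {V : C.Opens} (hV : IsAffineOpen V) :
    _root_.IsReduced Γ(Y, g ⁻¹ᵁ V) := by
  by_cases hne : (V : Set C).Nonempty
  · have hη : genericPoint C ∈ V := (genericPoint_spec C).mem_open_set_iff V.2 |>.2 (by simpa using hne)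
    let iB : Algebra Γ(C, V) Γ(Y, g ⁻¹ᵁ V) := (g.app V).hom.toAlgebra
    let iK : Algebra Γ(C, V) (C.residueField (genericPoint C)) := (toRes (genericPoint C) hη).hom.toAlgebra
    have hflat : Module.Flat Γ(C, V) Γ(Y, g ⁻¹ᵁ V) := by
      have := g.flat_appLE hV (hV.preimage g) le_rfl
      rw [← Scheme.Hom.app_eq_appLE] at this
      exact this
    have hpo := CommRingCat.isPushout_tensorProduct Γ(C, V) Γ(Y, g ⁻¹ᵁ V) (C.residueField (genericPoint C))
    have hpb := isPullback_SpecMap_of_isPushout _ _ _ _ hpo
    have h1 := isPullback_fromSpec g hV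
    have h2 := hpb.paste_horiz h1
    have h3 : Spec.map (CommRingCat.ofHom (algebraMap Γ(C, V) (C.residueField (genericPoint C)))) ≫ hV.fromSpec =
        C.fromSpecResidueField (genericPoint C) := map_toRes hV (genericPoint C) hη
    rw [h3] at h2
    have h4 : AlgebraicGeometry.IsReduced (pullback g (C.fromSpecResidueField (genericPoint C))) := hred
    have h5 := isReduced_of_isOpenImmersion h2.isoPullback.hom
    have h6 : _root_.IsReduced (Γ(Y, g ⁻¹ᵁ V) ⊗[Γ(C, V)] (C.residueField (genericPoint C))) :=
      (affine_isReduced_iff _).1 h5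
    exact isReduced_of_injective
      (Algebra.TensorProduct.includeLeft : Γ(Y, g ⁻¹ᵁ V) →ₐ[Γ(C, V)] Γ(Y, g ⁻¹ᵁ V) ⊗[Γ(C, V)] (C.residueField (genericPoint C)))
      (Algebra.TensorProduct.includeLeft_injective (toRes_injective hη))
  · have h0 : V = ⊥ := by
      rw [Set.not_nonempty_iff_eq_empty] at hne
      exact Opens.ext hne
    subst h0
    have h1 : Subsingleton Γ(Y, g ⁻¹ᵁ (⊥ : C.Opens)) := by
      have h2 : g ⁻¹ᵁ (⊥ : C.Opens) = ⊥ := rfl
      rw [h2]
      infer_instance
    infer_instance

end K960.TrRed
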